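import Cfsg.Agent.TensorSp.Ring

/-!
Maximality of the tensor stabiliser in `Ω` of the product of two alternating forms (helper99).
-/

set_option autoImplicit false
set_option linter.unusedSectionVars false
set_option linter.unusedSimpArgs false

namespace Cfsg.Agent.TensorSp

open Matrix Cfsg.Agent.TensorMax Cfsg.Agent.MaxSub QuadraticMap
open Cfsg.Agent.UnitaryOrthogonal (eich eich_apply eich_mul eich_zero eichGroup eich_mem_eichGroup orth
  conj_eich orth_ext isometryGroupEquiv)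

variable {F : Type*} [Field F] {a b : ℕ} {S : TS F a b} {H : Subgroup (GL (Fin a × Fin b) F)}

theorem exists_zero_ne (g : SForm F b) (hb : 4 ≤ b) {e d : Fin b → F} (he : e ≠ 0)
    (hd : d ∉ Submodule.span F {e}) :
    ∃ f', g.form e f' = 1 ∧ g.form d f' = 0 := by
  obtain ⟨z, hz⟩ := g.exists_prescribed
    (show LinearIndependent F ![e, d] from (LinearIndependent.pair_iff' he).mpr fun t ht =>
      hd (Submodule.mem_span_singleton.mpr ⟨t, ht⟩)) ![-1, 0]
  exact ⟨z, by rw [g.skew, show g.form z e = -1 from hz 0, neg_neg], g.eq_zero_comm (hz 1)⟩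

/-- The root shapes with rank one block are not in the tensor stabiliser. -/
theorem root_not_mem (hb : 4 ≤ b) {x : Fin a → F} (hx : x ≠ 0) {e d : Fin b → F} (hed : S.g₂.form e d = 0)
    (he : e ≠ 0) (hd : d ∉ Submodule.span F {e}) {g : GL (Fin a × Fin b) F}
    (hg : ∀ z, (g : Matrix (Fin a × Fin b) (Fin a × Fin b) F) *ᵥ z = z + R S (S.g₁.rankOne x x) e d z) :
    g ∉ Cfsg.Geo.kroneckerSubgroup a b F := by
  rintro ⟨A, B, hAB⟩
  obtain rfl : g = kr A B := Units.ext hAB
  obtain ⟨f', hef', hdf'⟩ := exists_zero_ne S.g₂ hb he hd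
  have hdf0 : d ∉ Submodule.span F {f'} := fun h => by
    obtain ⟨t, rfl⟩ := Submodule.mem_span_singleton.mp h
    rw [map_smul, hef', smul_eq_mul, mul_one] at hed
    exact hd (by rw [hed, zero_smul]; exact zero_mem _)
  obtain ⟨g', hg'⟩ := S.g₂.exists_prescribed
    (show LinearIndependent F ![f', d] from (LinearIndependent.pair_iff' (fun h => by
      rw [h, map_zero] at hef'; exact zero_ne_one hef')).mpr fun t ht =>
        hdf0 (Submodule.mem_span_singleton.mpr ⟨t, ht⟩)) ![0, 1]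
  have key : ∀ y, S.g₂.form g' ((B : Matrix (Fin b) (Fin b) F) *ᵥ f') •
      ((A : Matrix (Fin a) (Fin a) F) *ᵥ y) = S.g₁.form x y • x := by
    intro y
    have h1 := congrArg (S.pi g') (hg (emb f' y))
    rw [kr_emb] at h1
    simp only [R_apply, S.g₁.adj_rankOne, map_add, S.pi_emb, hef', hdf', zero_smul, one_smul, map_zero,
      add_zero, show S.g₂.form g' f' = 0 from hg' 0, show S.g₂.form g' d = 1 from hg' 1, zero_add,
      SForm.rankOne_apply] at h1
    exact h1
  have hAx : (A : Matrix (Fin a) (Fin a) F) *ᵥ x ≠ 0 := fun h => hx (mulVec_injective A (by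
    show _ *ᵥ _ = _ *ᵥ _
    rw [h, mulVec_zero]))
  have h0 := key x
  rw [S.g₁.alt, zero_smul, smul_eq_zero] at h0
  obtain ⟨y, hy⟩ := S.g₁.exists_one hx
  have h1 := key y
  rw [h0.resolve_right hAx, zero_smul, hy, one_smul] at h1
  exact hx h1.symm

variable [Finite F] {M' : Subgroup (orth S.Q)}

theorem eich_root_mem (hM' : ∀ g ∈ H, ∃ g' ∈ M', ∀ z, g'.1 z = (g : Matrix (Fin a × Fin b) (Fin a × Fin b) F) *ᵥ z)
    {e d : Fin b → F} (hed : S.g₂.form e d = 0) {x y : Fin a → F}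
    (h : InH H (R S (S.g₁.rankOne y x) e d)) : eich S.Q (emb e x) (emb d y) ∈ M' := by
  obtain ⟨g, hgH, hgx⟩ := h
  obtain ⟨g', hg', hgg⟩ := hM' g hgH
  rw [show eich S.Q (emb e x) (emb d y) = g' from orth_ext fun z => by
    rw [hgg, hgx, eich_apply (S.pure _ _) (by rw [S.pol, hed, mul_zero]), S.pure, zero_mul, zero_smul,
      sub_zero, S.polar_emb, S.polar_emb, R_apply, S.g₁.adj_rankOne]
    simp only [SForm.rankOne_apply, LinearMap.neg_apply, map_neg, map_smul]
    abel]
  exact hg'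

/-- All the root elements at pure tensors give everything. -/
theorem eichGroup_le_of_rankOne (hb : 4 ≤ b) (h5 : 5 ≤ Module.finrank F (Fin a × Fin b → F))
    (hM' : ∀ g ∈ H, ∃ g' ∈ M', ∀ z, g'.1 z = (g : Matrix (Fin a × Fin b) (Fin a × Fin b) F) *ᵥ z)
    (hG : ∀ x y, G S H (S.g₁.rankOne x y)) (ha : 1 ≤ a) : eichGroup S.Q ≤ M' := by
  classical
  have root : ∀ {e d : Fin b → F}, S.g₂.form e d = 0 → e ≠ 0 → d ∉ Submodule.span F {e} →
      ∀ x y, eich S.Q (emb e x) (emb d y) ∈ M' := fun hed he hd x y =>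
    eich_root_mem hM' hed (hG y x _ _ hed he hd)
  have hperp : ∀ {e d : Fin b → F}, S.g₂.form e d = 0 → e ≠ 0 →
      ∀ x y, eich S.Q (emb e x) (emb d y) ∈ M' := by
    intro e d hed he x y
    by_cases hd : d ∈ Submodule.span F {e}
    · obtain ⟨d₀, hd₀, hd₀'⟩ := S.g₂.exists_perp ![e] e (by omega)
      have hd₀e : S.g₂.form e d₀ = 0 := hd₀ 0
      have h1 := root (d := d + d₀) (by rw [map_add, hed, hd₀e, add_zero]) he
        (fun h => hd₀' (by simpa using sub_mem h hd)) x y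
      have h2 := root (d := -d₀) (by rw [map_neg, hd₀e, neg_zero]) he
        (fun h => hd₀' (by simpa using neg_mem h)) x y
      have h3 := mul_mem h1 h2
      rw [eich_mul (S.pure _ _) (by rw [S.pol, map_add, hed, hd₀e, add_zero, mul_zero])
        (by rw [S.pol, map_neg, hd₀e, neg_zero, mul_zero]), ← LinearMap.add_apply, ← TS.emb_add_left,
        add_neg_cancel_right] at h3
      exact h3
    · exact root hed he hd x y
  have hfull : ∀ {e : Fin b → F}, e ≠ 0 → ∀ x, OrthStab.Full M' (emb e x) := by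
    intro e he x z hz
    by_cases hx : x = 0
    · subst hx
      rw [map_zero, show eich S.Q (0 : Fin a × Fin b → F) z = 1 from orth_ext fun w => by
        rw [eich_apply (QuadraticMap.map_zero _) (polar_zero_left ..)]; simp]
      exact one_mem M'
    obtain ⟨f', hf'⟩ := S.g₂.exists_one he
    set w := S.pi e z with hw
    have hxw : S.g₁.form x w = 0 := by rw [hw, ← S.polar_emb]; exact hz
    -- pure tensors off the perpendicular
    have hoff : eich S.Q (emb e x) (emb f' w) ∈ M' := by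
      obtain ⟨q, hxq⟩ := S.g₁.exists_one hx
      obtain ⟨b₁, hb₁, hb₁'⟩ := S.g₂.exists_perp ![e, f'] f' (by omega)
      obtain ⟨b₂, hb₂⟩ := S.g₂.exists_prescribed
        (show LinearIndependent F ![e, f', b₁] from by
          rw [Fintype.linearIndependent_iff]
          intro c hc
          simp only [Fin.sum_univ_three, Matrix.cons_val_zero, Matrix.cons_val_one,
            Matrix.cons_val_two, Matrix.tail_cons, Matrix.head_cons] at hc
          have h1 := congrArg (S.g₂.form e) hc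
          have h2 := congrArg (S.g₂.form f') hc
          simp only [map_add, map_smul, S.g₂.alt, hf', show S.g₂.form e b₁ = 0 from hb₁ 0,
            show S.g₂.form f' b₁ = 0 from hb₁ 1, S.g₂.skew f' e, smul_eq_mul, mul_zero, mul_one,
            add_zero, zero_add, map_zero, mul_neg, neg_eq_zero] at h1 h2
          rw [h1, h2, zero_smul, zero_smul, zero_add, zero_add, smul_eq_zero] at hc
          have h3 := hc.resolve_right fun h => hb₁' (by rw [h]; exact zero_mem _)
          intro i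
          fin_cases i <;> assumption) ![0, 0, 1]
      have he2 : S.g₂.form e b₂ = 0 := S.g₂.eq_zero_comm (hb₂ 0)
      have hf2 : S.g₂.form f' b₂ = 0 := S.g₂.eq_zero_comm (hb₂ 1)
      have h21 : S.g₂.form b₂ b₁ = 1 := hb₂ 2
      have he1 : S.g₂.form e b₁ = 0 := hb₁ 0
      have hf1 : S.g₂.form f' b₁ = 0 := hb₁ 1
      have hg := hperp (S.g₂.eq_zero_comm hf2) (fun h => by simp [h] at h21) q w
      have hE := hperp he1 he x x
      have h1 := mul_mem (mul_mem (mul_mem hg hE) (inv_mem hg)) (inv_mem hE)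
      have hQ1 : polar S.Q (emb b₂ q) (emb f' w) = 0 := by
        rw [S.pol, S.g₂.eq_zero_comm hf2, mul_zero]
      have hu : (eich S.Q (emb b₂ q) (emb f' w)).1 (emb e x) = emb e x := by
        rw [eich_apply (S.pure _ _) hQ1, S.pure, S.pol, S.pol, S.g₂.eq_zero_comm he2, S.g₁.skew w x,
          hxw]
        simp
      have hp : (eich S.Q (emb b₂ q) (emb f' w)).1 (emb b₁ x) = emb b₁ x + (-1 : F) • emb f' w := by
        rw [eich_apply (S.pure _ _) hQ1, S.pure, S.pol, S.pol, h21, hf1, S.g₁.skew q x, hxq]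
        simp
      rw [conj_eich, hu, hp, UnitaryOrthogonal.eich_inv (S.pure _ _) (by rw [S.pol, he1, mul_zero]),
        eich_mul (S.pure _ _) (by
          rw [polar_add_right, polar_smul_right, S.pol, S.pol, he1, hxw]; simp)
          (by rw [polar_neg_right, S.pol, he1, mul_zero, neg_zero]), add_assoc, add_comm _ (-_),
        ← add_assoc, add_neg_cancel, zero_add, neg_one_smul] at h1
      have h2 := inv_mem h1
      rwa [UnitaryOrthogonal.eich_inv (S.pure _ _) (by rw [polar_neg_right, S.pol, hxw, zero_mul, neg_zero]),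
        neg_neg] at h2
    -- the rest
    have hrest : eich S.Q (emb e x) (z - emb f' w) ∈ M' := by
      have hdec : z - emb f' w =
          ∑ j, emb (Pi.single j 1 - S.g₂.form e (Pi.single j 1) • f') (TS.col z j) := by
        have hsum : ∑ j, S.g₂.form e (Pi.single j 1) • TS.col z j = w := by
          rw [hw]
          conv_rhs => rw [TS.eq_sum_emb z]
          simp [map_sum, S.pi_emb]
        have hj : ∀ j, emb (Pi.single j 1 - S.g₂.form e (Pi.single j 1) • f') (TS.col z j) =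
            emb (Pi.single j 1) (TS.col z j) - S.g₂.form e (Pi.single j 1) • emb f' (TS.col z j) := by
          intro j
          rw [sub_eq_add_neg, ← neg_smul, TS.emb_add_left, TS.emb_smul_left, LinearMap.add_apply,
            LinearMap.smul_apply, neg_smul, ← sub_eq_add_neg]
        simp only [hj]
        rw [Finset.sum_sub_distrib, ← TS.eq_sum_emb z, ← hsum, map_sum]
        simp only [map_smul]
      rw [hdec]
      have hin : ∀ j, S.g₂.form e (Pi.single j 1 - S.g₂.form e (Pi.single j 1) • f') = 0 := fun j => by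
        simp [hf']
      suffices key : ∀ s : Finset (Fin b),
          polar S.Q (emb e x) (∑ j ∈ s, emb (Pi.single j 1 - S.g₂.form e (Pi.single j 1) • f')
            (TS.col z j)) = 0 ∧
          eich S.Q (emb e x) (∑ j ∈ s, emb (Pi.single j 1 - S.g₂.form e (Pi.single j 1) • f')
            (TS.col z j)) ∈ M' from (key Finset.univ).2
      intro s
      induction s using Finset.induction_on with
      | empty => simp [eich_zero, one_mem]
      | insert j s hj ih =>
        have hj0 := fun y => show polar S.Q (emb e x)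
          (emb (Pi.single j 1 - S.g₂.form e (Pi.single j 1) • f') y) = 0 by rw [S.pol, hin, mul_zero]
        rw [Finset.sum_insert hj]
        refine ⟨by rw [polar_add_right, hj0, ih.1, add_zero], ?_⟩
        rw [← eich_mul (S.pure _ _) (hj0 _) ih.1]
        exact mul_mem (hperp (hin j) he _ _) ih.2
    have h1 := mul_mem hrest hoff
    rwa [eich_mul (S.pure _ _) (by rw [polar_sub_right, hz, S.pol, hxw, zero_mul, sub_zero])
      (by rw [S.pol, hxw, zero_mul]), sub_add_cancel] at h1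
  obtain ⟨e, he⟩ : ∃ e : Fin b → F, e ≠ 0 := ⟨fun _ => 1, fun h => one_ne_zero (congrFun h ⟨0, by omega⟩)⟩
  obtain ⟨x, hx⟩ : ∃ x : Fin a → F, x ≠ 0 := ⟨fun _ => 1, fun h => one_ne_zero (congrFun h ⟨0, ha⟩)⟩
  obtain ⟨f', hf'⟩ := S.g₂.exists_one he
  obtain ⟨y, hy⟩ := S.g₁.exists_one hx
  exact OrthStab.eichGroup_le_of_hypPair S.nd h5 (S.pure e x) (S.pure f' y)
    (by rw [S.pol, hy, hf', mul_one]; exact one_ne_zero) (hfull he x)
    (hfull (fun h => by rw [h, map_zero] at hf'; exact zero_ne_one hf') y)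

/-- The stabiliser of the decomposition is maximal in `Ω`. -/
theorem isMaximal (S : TS F a b) (ha : 2 ≤ a) (hab : a + 2 ≤ b) (hb : 6 ≤ b)
    (hq : 3 ≤ a ∨ 3 ≤ Nat.card F) :
    Cfsg.Geo.IsMaximalIn (Cfsg.Geo.omegaGL ⇑S.Q)
      (Cfsg.Geo.kroneckerSubgroup a b F ⊓ Cfsg.Geo.omegaGL ⇑S.Q) := by
  classical
  have h5 : 5 ≤ Module.finrank F (Fin a × Fin b → F) := by
    rw [Module.finrank_fintype_fun_eq_card, Fintype.card_prod, Fintype.card_fin, Fintype.card_fin]
    calc 5 ≤ 2 * 6 := by norm_num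
      _ ≤ a * b := Nat.mul_le_mul ha hb
  have hlift : ∀ {T}, S.InE T → InH (Cfsg.Geo.omegaGL ⇑S.Q) T := by
    rintro T ⟨g, hg, hgx⟩
    obtain ⟨g₀, hg₀, hgg⟩ := OrthStab.exists_lift S.nd h5 hg
    exact ⟨g₀.1, hg₀, fun z => (show _ = g.1 z by rw [← hgg]; rfl).trans (hgx z)⟩
  have hleft : ∀ e c, kr (1 : GL (Fin a) F) (S.g₂.gl e c) ∈ Cfsg.Geo.omegaGL ⇑S.Q := by
    intro e c
    obtain ⟨g, hg, hgx⟩ := hlift (S.inE_left e c)
    rwa [show kr (1 : GL (Fin a) F) (S.g₂.gl e c) = g from Units.ext (Matrix.ext_of_mulVec_single fun p => by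
      rw [S.kr_left, hgx]; rfl)]
  have hright : ∀ x c, kr (S.g₁.gl x c) (1 : GL (Fin b) F) ∈ Cfsg.Geo.omegaGL ⇑S.Q := by
    intro x c
    obtain ⟨g, hg, hgx⟩ := S.inE_right x c
    obtain ⟨g₀, hg₀, hgg⟩ := OrthStab.exists_lift S.nd h5 hg
    rwa [show kr (S.g₁.gl x c) (1 : GL (Fin b) F) = g₀.1 from Units.ext (Matrix.ext_of_mulVec_single fun p => by
      rw [← hgx, ← hgg]; rfl)]
  have hisom : ∀ g ∈ Cfsg.Geo.omegaGL ⇑S.Q, S.IsIsom g := by
    rintro _ ⟨g₀, -, rfl⟩ z
    exact g₀.2 z 0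
  refine ⟨lt_of_le_not_ge inf_le_right fun hc => ?_, fun M hKM hMΩ => ?_⟩
  · obtain ⟨x, hx⟩ : ∃ x : Fin a → F, x ≠ 0 := ⟨fun _ => 1, fun h => one_ne_zero (congrFun h ⟨0, by omega⟩)⟩
    obtain ⟨e, he⟩ : ∃ e : Fin b → F, e ≠ 0 := ⟨fun _ => 1, fun h => one_ne_zero (congrFun h ⟨0, by omega⟩)⟩
    obtain ⟨d, hd, hde⟩ := S.g₂.exists_perp ![e] e (by omega)
    have hed : S.g₂.form e d = 0 := hd 0
    obtain ⟨g₀, hg₀, hgg⟩ := OrthStab.exists_lift S.nd h5 (eich_mem_eichGroup (Q := S.Q) (emb e x) (emb d x))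
    refine root_not_mem (S := S) (by omega) hx hed he hde (g := g₀.1) (fun z => ?_) (hc hg₀).1
    rw [show (g₀.1 : Matrix (Fin a × Fin b) (Fin a × Fin b) F) *ᵥ z = (eich S.Q (emb e x) (emb d x)).1 z by
      rw [← hgg]; rfl, eich_apply (S.pure _ _) (by rw [S.pol, hed, mul_zero]), S.pure, zero_mul, zero_smul,
      sub_zero, S.polar_emb, S.polar_emb, R_apply, S.g₁.adj_rankOne]
    simp only [SForm.rankOne_apply, LinearMap.neg_apply, map_neg, map_smul]
    abel
  by_contra hne
  push Not at hne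
  obtain ⟨g₀, hg₀, hgn⟩ := SetLike.exists_of_lt (lt_of_le_of_ne hKM (Ne.symm hne.1))
  have hgT : g₀ ∉ Cfsg.Geo.kroneckerSubgroup a b F := fun h => hgn ⟨h, hMΩ hg₀⟩
  have O : Over S M := ⟨fun g hg => hisom g (hMΩ hg), fun e c => hKM ⟨kr_mem _ _, hleft e c⟩,
    fun x c => hKM ⟨kr_mem _ _, hright x c⟩⟩
  obtain ⟨s, v, w, hs, hsT, hv, hw, hl⟩ := exists_lineTo O (by omega) hab hg₀ hgT
  obtain ⟨k, hk, hkw⟩ := S.g₂.exists_move_one hw hv
  obtain ⟨hkM, -⟩ := closure_left_mem O hk
  obtain ⟨r, hrM, Φ, d, hrad, hed, hns⟩ := exists_rad_ns O ha (by omega) hq hv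
    (mul_mem hkM hs) (fun h => hsT ((Subgroup.mul_mem_cancel_left _ (kr_mem 1 k)).mp h))
    (fun x => by
      obtain ⟨y, hy⟩ := hl x
      exact ⟨y, by rw [Units.val_mul, ← mulVec_mulVec, hy, kr_emb, hkw, Units.val_one, one_mulVec]⟩)
  obtain ⟨α, hα, hαns⟩ := exists_G_ns O hb hv hrM hrad hed hns
  let M' : Subgroup (orth S.Q) :=
    (M.comap (Cfsg.isometryGroup F ⇑S.Q).subtype).map
      (isometryGroupEquiv S.Q (f := ⇑S.Q) (fun _ => rfl)).toMonoidHom
  have hM' : ∀ g ∈ M, ∃ g' ∈ M', ∀ z, g'.1 z = (g : Matrix (Fin a × Fin b) (Fin a × Fin b) F) *ᵥ z := by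
    intro g hg
    obtain ⟨g₁, -, rfl⟩ := hMΩ hg
    exact ⟨OrthStab.toOrth g₁, ⟨g₁, hg, rfl⟩, fun z => rfl⟩
  have hgen := eichGroup_le_of_rankOne (S := S) (by omega) h5 hM'
    (G_rankOne O hb hq hα hαns) (by omega)
  refine hne.2 (le_antisymm hMΩ ?_)
  rintro _ ⟨g₁, hg₁, rfl⟩
  obtain ⟨g₂, hg₂, hgg⟩ := hgen ((OrthStab.mem_omega_iff S.nd h5 g₁).mp hg₁)
  exact ((isometryGroupEquiv S.Q (f := ⇑S.Q) (fun _ => rfl)).injective hgg) ▸ hg₂

end Cfsg.Agent.TensorSp
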