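import Cfsg.Agent.TensorMax.Lines
import Cfsg.Agent.MaxSub.OrthVectorGL

/-!
Two alternating forms, their tensor product and its contractions (helper99).
-/

set_option autoImplicit false
set_option linter.unusedSectionVars false
set_option linter.unusedSimpArgs false

namespace Cfsg.Agent.TensorSp

open Matrix Cfsg.Agent.TensorMax Cfsg.Agent.MaxSub

variable {F : Type*} [Field F] {a b n : ℕ}

/-- A non-degenerate alternating form on `F^n`. -/
structure SForm (F : Type*) [Field F] (n : ℕ) where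
  form : (Fin n → F) →ₗ[F] (Fin n → F) →ₗ[F] F
  alt : ∀ v, form v v = 0
  nd : ∀ v, (∀ x, form v x = 0) → v = 0

namespace SForm

variable (g : SForm F n)

theorem skew (v w : Fin n → F) : g.form v w = -g.form w v := by
  have h := g.alt (v + w)
  simp only [map_add, LinearMap.add_apply, g.alt, zero_add, add_zero] at h
  rw [add_comm] at h
  exact eq_neg_of_add_eq_zero_left h

theorem eq_zero_comm {v w : Fin n → F} (h : g.form v w = 0) : g.form w v = 0 := by
  rw [g.skew, h, neg_zero]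

/-- The coordinate vector of `f(v, ·)`. -/
def dual (v : Fin n → F) : Fin n → F := fun j => g.form v (Pi.single j 1)

theorem dual_dot (v x : Fin n → F) : g.dual v ⬝ᵥ x = g.form v x := by
  conv_rhs => rw [pi_eq_sum_univ' x]
  simp only [map_sum, map_smul, smul_eq_mul, dual, dotProduct]
  exact Finset.sum_congr rfl fun j _ => mul_comm _ _

theorem exists_rep (ξ : (Fin n → F) →ₗ[F] F) : ∃ d, ∀ x, g.form d x = ξ x := by
  have hinj : Function.Injective g.form := by
    rw [injective_iff_map_eq_zero]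
    exact fun u hu => g.nd u fun x => LinearMap.congr_fun hu x
  obtain ⟨d, hd⟩ := (LinearMap.injective_iff_surjective_of_finrank_eq_finrank
    (by rw [Subspace.dual_finrank_eq])).mp hinj ξ
  exact ⟨d, fun x => LinearMap.congr_fun hd x⟩

theorem eq_of_forall {v w : Fin n → F} (h : ∀ x, g.form x v = g.form x w) : v = w :=
  sub_eq_zero.mp (g.nd _ fun x => by
    rw [map_sub, LinearMap.sub_apply, g.skew v, g.skew w, h x, sub_self])

theorem exists_one {v : Fin n → F} (hv : v ≠ 0) : ∃ w, g.form v w = 1 := by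
  by_contra hc
  push Not at hc
  refine hv (g.nd v fun x => ?_)
  by_contra hx
  exact hc ((g.form v x)⁻¹ • x) (by rw [map_smul, smul_eq_mul, inv_mul_cancel₀ hx])

/-- Vectors with prescribed products with finitely many independent vectors. -/
theorem exists_prescribed {k : ℕ} {v : Fin k → (Fin n → F)} (hv : LinearIndependent F v)
    (c : Fin k → F) : ∃ d, ∀ i, g.form d (v i) = c i := by
  obtain ⟨ξ, hξ⟩ := LinearMap.exists_extend
    ((Finsupp.linearCombination F c) ∘ₗ (hv.repr : Submodule.span F (Set.range v) →ₗ[F] (Fin k →₀ F)))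
  obtain ⟨d, hd⟩ := g.exists_rep ξ
  refine ⟨d, fun i => ?_⟩
  have h1 := LinearMap.congr_fun hξ ⟨v i, Submodule.subset_span ⟨i, rfl⟩⟩
  have h2 : hv.repr ⟨v i, Submodule.subset_span ⟨i, rfl⟩⟩ = Finsupp.single i 1 :=
    hv.repr_eq_single i _ rfl
  simp only [LinearMap.comp_apply, Submodule.subtype_apply] at h1
  rw [h2, Finsupp.linearCombination_single, one_smul] at h1
  rw [hd, h1]

theorem exists_adj (α : (Fin n → F) →ₗ[F] (Fin n → F)) :
    ∃ α' : (Fin n → F) →ₗ[F] (Fin n → F), ∀ y y', g.form (α y) y' = g.form y (α' y') := by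
  have hinj : Function.Injective g.form := by
    rw [injective_iff_map_eq_zero]
    exact fun u hu => g.nd u fun x => LinearMap.congr_fun hu x
  let e := LinearEquiv.ofBijective g.form ⟨hinj,
    (LinearMap.injective_iff_surjective_of_finrank_eq_finrank
      (by rw [Subspace.dual_finrank_eq])).mp hinj⟩
  refine ⟨-(e.symm.toLinearMap ∘ₗ α.dualMap ∘ₗ g.form.flip), fun y y' => ?_⟩
  rw [g.skew y, LinearMap.neg_apply, map_neg, LinearMap.neg_apply, neg_neg]
  show _ = e (e.symm _) y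
  rw [LinearEquiv.apply_symm_apply]
  rfl

/-- The adjoint. -/
noncomputable def adj (α : (Fin n → F) →ₗ[F] (Fin n → F)) : (Fin n → F) →ₗ[F] (Fin n → F) :=
  (g.exists_adj α).choose

theorem adj_spec (α : (Fin n → F) →ₗ[F] (Fin n → F)) (y y' : Fin n → F) :
    g.form (α y) y' = g.form y (g.adj α y') := (g.exists_adj α).choose_spec y y'

theorem adj_eq {α α' : (Fin n → F) →ₗ[F] (Fin n → F)}
    (h : ∀ y y', g.form (α y) y' = g.form y (α' y')) : g.adj α = α' :=
  LinearMap.ext fun y' => g.eq_of_forall fun y => (g.adj_spec α y y').symm.trans (h y y')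

theorem adj_adj (α : (Fin n → F) →ₗ[F] (Fin n → F)) : g.adj (g.adj α) = α :=
  g.adj_eq fun y y' => by rw [g.skew, ← g.adj_spec, ← g.skew]

theorem adj_id : g.adj LinearMap.id = LinearMap.id := g.adj_eq fun _ _ => rfl

theorem adj_comp (α β : (Fin n → F) →ₗ[F] (Fin n → F)) :
    g.adj (α ∘ₗ β) = g.adj β ∘ₗ g.adj α :=
  g.adj_eq fun y y' => by simp only [LinearMap.comp_apply, g.adj_spec]

theorem adj_smul (c : F) (α : (Fin n → F) →ₗ[F] (Fin n → F)) : g.adj (c • α) = c • g.adj α :=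
  g.adj_eq fun y y' => by simp [g.adj_spec]

theorem adj_add (α β : (Fin n → F) →ₗ[F] (Fin n → F)) : g.adj (α + β) = g.adj α + g.adj β :=
  g.adj_eq fun y y' => by simp [g.adj_spec]

/-- The map `y ↦ f(u, y) v`. -/
def rankOne (v u : Fin n → F) : (Fin n → F) →ₗ[F] (Fin n → F) := (g.form u).smulRight v

theorem rankOne_apply (v u y : Fin n → F) : g.rankOne v u y = g.form u y • v := rfl

theorem adj_rankOne (v u : Fin n → F) : g.adj (g.rankOne v u) = -g.rankOne u v :=
  g.adj_eq fun y y' => by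
    simp only [rankOne_apply, LinearMap.neg_apply, map_smul, map_neg, LinearMap.smul_apply, smul_eq_mul]
    rw [g.skew u y]; ring

/-- The transvection `y ↦ y + c f(v, y) v`. -/
noncomputable def gl (v : Fin n → F) (c : F) : GL (Fin n) F := tv v (c • g.dual v)

theorem gl_mulVec (v : Fin n → F) (c : F) (y : Fin n → F) :
    (g.gl v c : Matrix (Fin n) (Fin n) F) *ᵥ y = y + (c * g.form v y) • v := by
  rw [gl, tv_mulVec (by rw [smul_dotProduct, g.dual_dot, g.alt, smul_zero]), smul_dotProduct,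
    g.dual_dot, smul_eq_mul]

theorem gl_form (v : Fin n → F) (c : F) (y y' : Fin n → F) :
    g.form ((g.gl v c : Matrix (Fin n) (Fin n) F) *ᵥ y)
      ((g.gl v c : Matrix (Fin n) (Fin n) F) *ᵥ y') = g.form y y' := by
  simp only [gl_mulVec, map_add, map_smul, LinearMap.add_apply, LinearMap.smul_apply, smul_eq_mul, g.alt]
  rw [g.skew y v]; ring

theorem gl_inv (v : Fin n → F) (c : F) : (g.gl v c)⁻¹ = g.gl v (-c) := by
  rw [gl, gl, tv_inv (by rw [smul_dotProduct, g.dual_dot, g.alt, smul_zero]), neg_smul]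

/-- Transvections are transitive on non-zero vectors; with a fixed orthogonal vector too. -/
theorem exists_move {e v w : Fin n → F} (hev : g.form e v = 0) (hew : g.form e w = 0)
    (hv : v ∉ Submodule.span F {e}) (hw : w ∉ Submodule.span F {e}) :
    ∃ k ∈ Subgroup.closure {x : GL (Fin n) F | ∃ u c, x = g.gl u c},
      (k : Matrix (Fin n) (Fin n) F) *ᵥ e = e ∧ (k : Matrix (Fin n) (Fin n) F) *ᵥ v = w := by
  have key : ∀ {v w : Fin n → F}, g.form e v = 0 → g.form e w = 0 → g.form v w ≠ 0 →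
      ∃ k ∈ Subgroup.closure {x : GL (Fin n) F | ∃ u c, x = g.gl u c},
        (k : Matrix (Fin n) (Fin n) F) *ᵥ e = e ∧ (k : Matrix (Fin n) (Fin n) F) *ᵥ v = w := by
    intro v w hv hw hvw
    have h1 : g.form (w - v) e = 0 := g.eq_zero_comm (by rw [map_sub, hw, hv, sub_zero])
    have h2 : g.form (w - v) v ≠ 0 := by
      rw [map_sub, LinearMap.sub_apply, g.alt, sub_zero]
      exact fun h => hvw (g.eq_zero_comm h)
    refine ⟨g.gl (w - v) (g.form (w - v) v)⁻¹, Subgroup.subset_closure ⟨_, _, rfl⟩, ?_, ?_⟩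
    · rw [gl_mulVec, h1, mul_zero, zero_smul, add_zero]
    · rw [gl_mulVec, inv_mul_cancel₀ h2, one_smul, add_sub_cancel]
  by_cases hvw : g.form v w = 0
  swap
  · exact key hev hew hvw
  obtain ⟨m, hm⟩ : ∃ m, g.form e m = 0 ∧ g.form v m ≠ 0 ∧ g.form w m ≠ 0 := by
    have ex : ∀ {u}, u ∉ Submodule.span F {e} → ∃ m, g.form e m = 0 ∧ g.form u m ≠ 0 := by
      intro u hu
      by_contra hc
      push Not at hc
      have hu0 : u ≠ 0 := fun h => hu (h ▸ zero_mem _)
      obtain ⟨m0, hm0⟩ := g.exists_one hu0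
      by_cases he : g.form e m0 = 0
      · exact one_ne_zero (hm0.symm.trans (hc m0 he))
      refine hu (Submodule.mem_span_singleton.mpr ⟨(g.form e m0)⁻¹, (sub_eq_zero.mp (g.nd _ fun x => ?_)).symm⟩)
      have h1 := hc (g.form e x • m0 - g.form e m0 • x) (by simp [mul_comm])
      simp only [map_sub, map_smul, smul_eq_mul, hm0, mul_one, sub_eq_zero] at h1
      rw [map_sub, map_smul, LinearMap.sub_apply, LinearMap.smul_apply, smul_eq_mul, h1, ← mul_assoc,
        inv_mul_cancel₀ he, one_mul, sub_self]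
    obtain ⟨m1, h1, h1'⟩ := ex hv
    obtain ⟨m2, h2, h2'⟩ := ex hw
    by_cases hA : g.form w m1 = 0
    · by_cases hB : g.form v m2 = 0
      · exact ⟨m1 + m2, by simp [h1, h2], by simp [hB, h1'], by simp [hA, h2']⟩
      · exact ⟨m2, h2, hB, h2'⟩
    · exact ⟨m1, h1, h1', hA⟩
  obtain ⟨k1, hk1, hk1e, hk1v⟩ := key hev hm.1 hm.2.1
  obtain ⟨k2, hk2, hk2e, hk2m⟩ := key hm.1 hew (fun h => hm.2.2 (g.eq_zero_comm h))
  exact ⟨k2 * k1, mul_mem hk2 hk1, by rw [Units.val_mul, ← mulVec_mulVec, hk1e, hk2e],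
    by rw [Units.val_mul, ← mulVec_mulVec, hk1v, hk2m]⟩

theorem exists_move_one {v w : Fin n → F} (hv : v ≠ 0) (hw : w ≠ 0) :
    ∃ k ∈ Subgroup.closure {x : GL (Fin n) F | ∃ u c, x = g.gl u c},
      (k : Matrix (Fin n) (Fin n) F) *ᵥ v = w := by
  obtain ⟨k, hk, -, h⟩ := g.exists_move (e := (0 : Fin n → F)) (v := v) (w := w) (by simp) (by simp)
    (by simpa using hv) (by simpa using hw)
  exact ⟨k, hk, h⟩

end SForm

/-- A quadratic form on `F^a ⊗ F^b` vanishing on pure tensors whose polar is the product of two alternating forms. -/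
structure TS (F : Type*) [Field F] (a b : ℕ) where
  Q : QuadraticForm F (Fin a × Fin b → F)
  g₁ : SForm F a
  g₂ : SForm F b
  pure : ∀ e x, Q (emb e x) = 0
  pol : ∀ e x d y, QuadraticMap.polar Q (emb e x) (emb d y) = g₁.form x y * g₂.form e d
  nd : UnitaryOrthogonal.PolarND Q

namespace TS

variable (S : TS F a b)

/-- The contraction `id ⊗ f₂(e, ·)`. -/
def pi (e : Fin b → F) : (Fin a × Fin b → F) →ₗ[F] (Fin a → F) := ctr (S.g₂.dual e)

theorem pi_emb (e d : Fin b → F) (x : Fin a → F) : S.pi e (emb d x) = S.g₂.form e d • x := by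
  rw [pi, ctr_emb, S.g₂.dual_dot]

/-- The column. -/
def col (z : Fin a × Fin b → F) (j : Fin b) : Fin a → F := fun i => z (i, j)

theorem eq_sum_emb (z : Fin a × Fin b → F) : z = ∑ j, emb (Pi.single j 1) (col z j) := by
  funext p
  simp [emb, col, Pi.single_apply, Finset.sum_apply]

theorem pi_add_left (e e' : Fin b → F) : S.pi (e + e') = S.pi e + S.pi e' := by
  refine LinearMap.ext fun z => ?_
  rw [eq_sum_emb z]
  simp [map_sum, pi_emb, add_smul, Finset.sum_add_distrib]

theorem pi_smul_left (c : F) (e : Fin b → F) : S.pi (c • e) = c • S.pi e := by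
  refine LinearMap.ext fun z => ?_
  rw [eq_sum_emb z]
  simp [map_sum, pi_emb, Finset.smul_sum, smul_smul]

theorem emb_add_left (e e' : Fin b → F) : (emb (e + e') : (Fin a → F) →ₗ[F] _) = emb e + emb e' :=
  LinearMap.ext fun x => funext fun p => mul_add _ _ _

theorem emb_smul_left (c : F) (e : Fin b → F) : (emb (c • e) : (Fin a → F) →ₗ[F] _) = c • emb e :=
  LinearMap.ext fun x => funext fun p => by simp [emb]; ring

theorem polar_emb (e : Fin b → F) (x : Fin a → F) (z : Fin a × Fin b → F) :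
    QuadraticMap.polar S.Q (emb e x) z = S.g₁.form x (S.pi e z) := by
  conv_lhs => rw [eq_sum_emb z]
  conv_rhs => rw [eq_sum_emb z]
  rw [← QuadraticMap.polarBilin_apply_apply, map_sum, map_sum, map_sum]
  refine Finset.sum_congr rfl fun j _ => ?_
  rw [QuadraticMap.polarBilin_apply_apply, S.pol, pi_emb, map_smul, smul_eq_mul, mul_comm]

theorem eq_of_pi {z z' : Fin a × Fin b → F} (h : ∀ d, S.pi d z = S.pi d z') : z = z' := by
  refine sub_eq_zero.mp (S.nd _ fun w => ?_)
  rw [QuadraticMap.polar_comm, eq_sum_emb w, ← QuadraticMap.polarBilin_apply_apply, map_sum,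
    LinearMap.sum_apply]
  refine Finset.sum_eq_zero fun j _ => ?_
  rw [QuadraticMap.polarBilin_apply_apply, S.polar_emb, map_sub, h, sub_self, map_zero]

/-- A vector killed by the contractions of `e^⊥` lies in the line of `e`. -/
theorem eq_emb_of_pi {e f : Fin b → F} (hfe : S.g₂.form f e = 1) {z : Fin a × Fin b → F}
    (h : ∀ d, S.g₂.form e d = 0 → S.pi d z = 0) : z = emb e (S.pi f z) := by
  refine S.eq_of_pi fun d => ?_
  have h1 := h (d - S.g₂.form d e • f) (S.g₂.eq_zero_comm (by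
    simp [hfe]))
  rw [sub_eq_add_neg, ← neg_smul, pi_add_left, pi_smul_left, LinearMap.add_apply, LinearMap.smul_apply,
    neg_smul, ← sub_eq_add_neg, sub_eq_zero] at h1
  rw [h1, pi_emb]

/-- An isometry of `Q`. -/
def IsIsom (g : GL (Fin a × Fin b) F) : Prop :=
  ∀ z, S.Q ((g : Matrix (Fin a × Fin b) (Fin a × Fin b) F) *ᵥ z) = S.Q z

variable {S}

theorem IsIsom.inv {g : GL (Fin a × Fin b) F} (hg : S.IsIsom g) : S.IsIsom g⁻¹ := fun z => by
  rw [← hg, mulVec_inv_mulVec]

theorem IsIsom.mul {g h : GL (Fin a × Fin b) F} (hg : S.IsIsom g) (hh : S.IsIsom h) :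
    S.IsIsom (g * h) := fun z => by rw [Units.val_mul, ← mulVec_mulVec, hg, hh]

theorem IsIsom.polar {g : GL (Fin a × Fin b) F} (hg : S.IsIsom g) (z z' : Fin a × Fin b → F) :
    QuadraticMap.polar S.Q ((g : Matrix (Fin a × Fin b) (Fin a × Fin b) F) *ᵥ z)
      ((g : Matrix (Fin a × Fin b) (Fin a × Fin b) F) *ᵥ z') = QuadraticMap.polar S.Q z z' := by
  simp only [QuadraticMap.polar, ← mulVec_add, hg _]

/-- Moving an element to the other side of the product. -/
theorem IsIsom.pi_inv {g : GL (Fin a × Fin b) F} (hg : S.IsIsom g) (e : Fin b → F) (x : Fin a → F)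
    (z : Fin a × Fin b → F) :
    S.g₁.form x (S.pi e (((g⁻¹ : GL (Fin a × Fin b) F) : Matrix (Fin a × Fin b) (Fin a × Fin b) F) *ᵥ z)) =
      QuadraticMap.polar S.Q ((g : Matrix (Fin a × Fin b) (Fin a × Fin b) F) *ᵥ emb e x) z := by
  rw [← S.polar_emb, ← hg.polar, mulVec_inv_mulVec]

end TS

/-- `1 + T` lies in `H`. -/
def InH (H : Subgroup (GL (Fin a × Fin b) F))
    (T : (Fin a × Fin b → F) →ₗ[F] (Fin a × Fin b → F)) : Prop :=
  ∃ g ∈ H, ∀ z, (g : Matrix (Fin a × Fin b) (Fin a × Fin b) F) *ᵥ z = z + T z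

variable {H : Subgroup (GL (Fin a × Fin b) F)}

theorem InH.add {T T' : (Fin a × Fin b → F) →ₗ[F] (Fin a × Fin b → F)} (h : InH H T) (h' : InH H T')
    (h0 : ∀ z, T (T' z) = 0) : InH H (T + T') := by
  obtain ⟨g, hg, hgx⟩ := h
  obtain ⟨g', hg', hgx'⟩ := h'
  refine ⟨g * g', mul_mem hg hg', fun z => ?_⟩
  rw [Units.val_mul, ← mulVec_mulVec, hgx', hgx, map_add, h0, LinearMap.add_apply]
  abel

theorem InH.neg {T : (Fin a × Fin b → F) →ₗ[F] (Fin a × Fin b → F)} (h : InH H T)
    (h0 : ∀ z, T (T z) = 0) : InH H (-T) := by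
  obtain ⟨g, hg, hgx⟩ := h
  refine ⟨g⁻¹, inv_mem hg, fun z => mulVec_injective g ?_⟩
  show _ *ᵥ _ = _ *ᵥ _
  rw [mulVec_inv_mulVec, hgx, LinearMap.neg_apply, map_add, map_neg, h0]
  abel

theorem InH.comm {T T' : (Fin a × Fin b → F) →ₗ[F] (Fin a × Fin b → F)} (h : InH H T) (h' : InH H T')
    (h0 : ∀ z, T (T z) = 0) (h0' : ∀ z, T' (T' z) = 0) (h3 : ∀ z, T (T' (T z)) = 0)
    (h3' : ∀ z, T' (T (T' z)) = 0) : InH H (T ∘ₗ T' - T' ∘ₗ T) := by
  obtain ⟨g, hg, hgx⟩ := h
  obtain ⟨g', hg', hgx'⟩ := h'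
  refine ⟨g * g' * g⁻¹ * g'⁻¹, mul_mem (mul_mem (mul_mem hg hg') (inv_mem hg)) (inv_mem hg'), fun z => ?_⟩
  have hi : ∀ (g : GL (Fin a × Fin b) F) (T : (Fin a × Fin b → F) →ₗ[F] (Fin a × Fin b → F)),
      (∀ z, (g : Matrix (Fin a × Fin b) (Fin a × Fin b) F) *ᵥ z = z + T z) → (∀ z, T (T z) = 0) →
      ∀ z, ((g⁻¹ : GL (Fin a × Fin b) F) : Matrix (Fin a × Fin b) (Fin a × Fin b) F) *ᵥ z = z - T z := by
    intro g T hgx h0 z
    refine mulVec_injective g ?_
    show _ *ᵥ _ = _ *ᵥ _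
    rw [mulVec_inv_mulVec, hgx, map_sub, h0]
    abel
  rw [Units.val_mul, Units.val_mul, Units.val_mul, ← mulVec_mulVec, ← mulVec_mulVec, ← mulVec_mulVec,
    hi g' T' hgx' h0', hi g T hgx h0, hgx', hgx, LinearMap.sub_apply, LinearMap.comp_apply,
    LinearMap.comp_apply]
  simp only [map_add, map_sub, h0, h0', h3, h3', map_zero]
  abel

end Cfsg.Agent.TensorSp
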