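import Cfsg.Agent.TensorSp.Omega

/-!
An element of an overgroup outside the tensor stabiliser sends a line to a line (helper99).
-/

set_option autoImplicit false
set_option linter.unusedSectionVars false
set_option linter.unusedSimpArgs false

namespace Cfsg.Agent.TensorSp

open Matrix Cfsg.Agent.TensorMax Cfsg.Agent.MaxSub Module

variable {F : Type*} [Field F] {a b : ℕ}

/-- A group of isometries containing the transvections of both factors. -/
structure Over (S : TS F a b) (H : Subgroup (GL (Fin a × Fin b) F)) : Prop where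
  isom : ∀ g ∈ H, S.IsIsom g
  left : ∀ e c, kr (1 : GL (Fin a) F) (S.g₂.gl e c) ∈ H
  right : ∀ x c, kr (S.g₁.gl x c) (1 : GL (Fin b) F) ∈ H

variable {S : TS F a b} {H : Subgroup (GL (Fin a × Fin b) F)}

theorem exists_lineTo (O : Over S H) (ha : 1 ≤ a) (hab : a + 2 ≤ b) {g₀ : GL (Fin a × Fin b) F}
    (hg₀ : g₀ ∈ H) (hT : g₀ ∉ Cfsg.Geo.kroneckerSubgroup a b F) :
    ∃ (s : GL (Fin a × Fin b) F) (v w : Fin b → F), s ∈ H ∧
      s ∉ Cfsg.Geo.kroneckerSubgroup a b F ∧ v ≠ 0 ∧ w ≠ 0 ∧ LineTo s v w := by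
  classical
  by_contra hno
  push Not at hno
  let Out : GL (Fin a × Fin b) F → Prop := fun s => s ∈ H ∧ s ∉ Cfsg.Geo.kroneckerSubgroup a b F
  have hφw : ∀ w : Fin b → F, ((1 : F) • S.g₂.dual w) ⬝ᵥ w = 0 := fun w => by
    rw [one_smul, S.g₂.dual_dot, S.g₂.alt]
  have hstep : ∀ {h}, Out h → ∀ {w : Fin b → F}, w ≠ 0 →
      Out (h⁻¹ * kr (1 : GL (Fin a) F) (S.g₂.gl w 1) * h) := by
    intro h hh w hw
    refine ⟨mul_mem (mul_mem (inv_mem hh.1) (O.left w 1)) hh.1, fun hm => ?_⟩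
    obtain ⟨w', hw', hl⟩ := lineTo_of_conj_mem (show a < b by omega) ha hw
      (fun h0 => hw (S.g₂.nd w fun x => by
        have := congrArg (· ⬝ᵥ x) h0
        simpa [S.g₂.dual_dot] using this)) (hφw w) hm
    exact hno h⁻¹ w w' (inv_mem hh.1) (fun hc => hh.2 (by simpa using inv_mem hc)) hw hw' hl
  let L : (Fin b → F) → Submodule F (Fin a × Fin b → F) := fun w => LinearMap.range (emb (a := a) w)
  let im : GL (Fin a × Fin b) F → (Fin b → F) → Submodule F (Fin a × Fin b → F) :=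
    fun s v => (L v).map (s : Matrix (Fin a × Fin b) (Fin a × Fin b) F).mulVecLin
  let P : ℕ → Prop := fun d => ∃ s, Out s ∧ ∃ v w, v ≠ 0 ∧ w ≠ 0 ∧
    finrank F ↥(im s v ⊓ L w) = d
  have hL : ∀ {w : Fin b → F}, w ≠ 0 → finrank F (L w) = a := fun hw => by
    rw [LinearMap.finrank_range_of_inj (emb_injective hw), finrank_fin_fun]
  have hle : ∀ s (v w : Fin b → F), w ≠ 0 → finrank F ↥(im s v ⊓ L w) ≤ a := fun s v w hw =>
    (Submodule.finrank_mono inf_le_right).trans (hL hw).le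
  -- a first intersection
  obtain ⟨d₁, hd₁, hP₁⟩ : ∃ d, 0 < d ∧ P d := by
    set v : Fin b → F := Pi.single ⟨0, by omega⟩ 1
    set p := emb (a := a) v fun _ => 1 with hp
    have hv : v ≠ 0 := by simp [v]
    have hp0 : p ≠ 0 := fun h =>
      one_ne_zero (congrFun (emb_injective hv (h.trans (map_zero _).symm)) ⟨0, ha⟩)
    let K : (Fin b → F) →ₗ[F] (Fin a → F) :=
      { toFun := fun w => S.pi w ((g₀ : Matrix (Fin a × Fin b) (Fin a × Fin b) F) *ᵥ p)
        map_add' := fun w w' => by rw [S.pi_add_left]; rfl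
        map_smul' := fun c w => by rw [S.pi_smul_left]; rfl }
    obtain ⟨w, hwK, hw⟩ := Submodule.exists_mem_ne_zero_of_ne_bot
      (LinearMap.ker_ne_bot_of_finrank_lt (f := K) (by rw [finrank_fin_fun, finrank_fin_fun]; omega))
    set s := g₀⁻¹ * kr (1 : GL (Fin a) F) (S.g₂.gl w 1) * g₀ with hs
    have hsp : (s : Matrix (Fin a × Fin b) (Fin a × Fin b) F) *ᵥ p = p := by
      rw [hs, Units.val_mul, Units.val_mul, ← mulVec_mulVec, ← mulVec_mulVec, S.kr_left,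
        show S.pi w _ = 0 from hwK, map_zero, smul_zero, add_zero, inv_mulVec_mulVec]
    refine ⟨_, ?_, s, hstep ⟨hg₀, hT⟩ hw, v, v, hv, hv, rfl⟩
    exact finrank_pos_iff_exists_ne_zero.mpr
      ⟨⟨p, ⟨p, ⟨_, rfl⟩, hsp⟩, ⟨_, rfl⟩⟩, fun h => hp0 (congrArg Subtype.val h)⟩
  have hd₁a : d₁ ≤ a := by
    obtain ⟨s, -, v, w, -, hw, rfl⟩ := hP₁
    exact hle s v w hw
  obtain ⟨h, hh, v, w, hv, hw, hd⟩ := Nat.findGreatest_spec (P := P) hd₁a hP₁
  set d := Nat.findGreatest P a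
  have hmax : ∀ s, Out s → ∀ v w : Fin b → F, v ≠ 0 → w ≠ 0 → finrank F ↥(im s v ⊓ L w) ≤ d :=
    fun s hs v w hv hw => Nat.le_findGreatest (hle s v w hw) ⟨s, hs, v, w, hv, hw, rfl⟩
  set L' := im h v with hL'
  obtain ⟨l, hl, hlw⟩ : ∃ l ∈ L', l ∉ L w := by
    by_contra hc
    push Not at hc
    refine hno h v w hh.1 hh.2 hv hw fun x => ?_
    obtain ⟨y, hy⟩ := hc _ ⟨_, ⟨x, rfl⟩, rfl⟩
    exact ⟨y, hy.symm⟩
  let K : (Fin b → F) →ₗ[F] F × (Fin a → F) :=
    { toFun := fun w' => (S.g₂.form w' w, S.pi w' l)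
      map_add' := fun w' w'' => by rw [map_add, S.pi_add_left]; rfl
      map_smul' := fun c w' => by rw [map_smul, S.pi_smul_left]; rfl }
  obtain ⟨w', hwK, hw'⟩ := Submodule.exists_mem_ne_zero_of_ne_bot
    (LinearMap.ker_ne_bot_of_finrank_lt (f := K) (by
      rw [finrank_prod, finrank_self, finrank_fin_fun, finrank_fin_fun]
      omega))
  have hww : S.g₂.form w' w = 0 := congrArg Prod.fst (LinearMap.mem_ker.mp hwK)
  have hwl : S.pi w' l = 0 := congrArg Prod.snd (LinearMap.mem_ker.mp hwK)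
  set u := kr (1 : GL (Fin a) F) (S.g₂.gl w' 1)
  set T := (L' ⊓ L w) ⊔ Submodule.span F {l}
  have hu : ∀ z ∈ T, z ∈ L' ∧ (u : Matrix (Fin a × Fin b) (Fin a × Fin b) F) *ᵥ z = z := by
    intro z hz
    obtain ⟨y, ⟨hy, ⟨x, rfl⟩⟩, t, ht, rfl⟩ := Submodule.mem_sup.mp hz
    obtain ⟨c, rfl⟩ := Submodule.mem_span_singleton.mp ht
    refine ⟨add_mem hy (L'.smul_mem c hl), ?_⟩
    rw [S.kr_left, map_add, map_smul, S.pi_emb, hww, zero_smul, hwl, smul_zero, add_zero, map_zero,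
      smul_zero, add_zero]
  set s := h⁻¹ * u * h
  have hlt : L' ⊓ L w < T := lt_of_le_of_ne le_sup_left fun he =>
    hlw ((he ▸ Submodule.mem_sup_right (Submodule.mem_span_singleton_self l) : l ∈ L' ⊓ L w).2)
  have h1 : d < finrank F T := hd ▸ Submodule.finrank_lt_finrank_of_lt hlt
  have hle2 : T.map ((h⁻¹ : GL (Fin a × Fin b) F) :
      Matrix (Fin a × Fin b) (Fin a × Fin b) F).mulVecLin ≤ im s v ⊓ L v := by
    rintro _ ⟨z, hz, rfl⟩
    obtain ⟨⟨_, ⟨x, rfl⟩, hx⟩, hfix⟩ := hu z hz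
    simp only [Matrix.mulVecLin_apply] at hx ⊢
    rw [← hx, inv_mulVec_mulVec]
    refine ⟨⟨emb v x, ⟨x, rfl⟩, ?_⟩, ⟨x, rfl⟩⟩
    simp only [s, Matrix.mulVecLin_apply, Units.val_mul, ← mulVec_mulVec, hx, hfix]
    rw [← hx, inv_mulVec_mulVec]
  have h2 := (Submodule.finrank_mono hle2).trans (hmax s (hstep hh hw') v v hv hv)
  rw [← (Submodule.equivMapOfInjective _ (fun x y hxy => mulVec_injective h⁻¹ hxy) T).finrank_eq] at h2
  omega

end Cfsg.Agent.TensorSp
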