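import Cfsg.Agent.TensorSp.Basic

/-!
The transvections of either tensor factor are products of root elements of the product form (helper99).
-/

set_option autoImplicit false
set_option linter.unusedSectionVars false
set_option linter.unusedSimpArgs false

namespace Cfsg.Agent.TensorSp

open Matrix Cfsg.Agent.TensorMax Cfsg.Agent.MaxSub QuadraticMap
open Cfsg.Agent.UnitaryOrthogonal (eich eich_apply eichGroup eich_mem_eichGroup)

theorem sum_alternating {M : Type*} [AddCommMonoid M] {n : ℕ} (φ : Fin n → Fin n → M)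
    (hd : ∀ j, φ j j = 0) :
    ∑ j, ∑ k, φ j k = ∑ p ∈ (Finset.univ : Finset (Fin n × Fin n)).filter (fun p => p.1 < p.2),
      (φ p.1 p.2 + φ p.2 p.1) := by
  rw [← Fintype.sum_prod_type', Finset.sum_add_distrib,
    ← Finset.sum_filter_add_sum_filter_not Finset.univ (fun p : Fin n × Fin n => p.1 < p.2)]
  congr 1
  rw [← Finset.sum_filter_add_sum_filter_not
    ((Finset.univ : Finset (Fin n × Fin n)).filter fun p => ¬ p.1 < p.2) (fun p => p.2 < p.1)]
  have h0 : ∑ p ∈ Finset.filter (fun p => ¬ p.2 < p.1)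
      ((Finset.univ : Finset (Fin n × Fin n)).filter fun p => ¬ p.1 < p.2), φ p.1 p.2 = 0 :=
    Finset.sum_eq_zero fun p hp => by
      simp only [Finset.mem_filter, Finset.mem_univ, true_and, not_lt] at hp
      rw [le_antisymm hp.2 hp.1, hd]
  rw [h0, add_zero]
  refine Finset.sum_nbij' Prod.swap Prod.swap ?_ ?_ (fun p _ => Prod.swap_swap p)
    (fun p _ => Prod.swap_swap p) (fun p _ => by simp)
  · intro p hp
    simp only [Finset.mem_coe, Finset.mem_filter, Finset.mem_univ, true_and] at hp ⊢
    exact hp.2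
  · intro p hp
    simp only [Finset.mem_coe, Finset.mem_filter, Finset.mem_univ, true_and] at hp ⊢
    exact ⟨hp.le.not_gt, hp⟩

variable {F : Type*} [Field F] {a b : ℕ} (S : TS F a b)

namespace TS

theorem kr_left (e : Fin b → F) (c : F) (z : Fin a × Fin b → F) :
    (kr (1 : GL (Fin a) F) (S.g₂.gl e c) : Matrix (Fin a × Fin b) (Fin a × Fin b) F) *ᵥ z =
      z + c • emb e (S.pi e z) := by
  rw [SForm.gl, kr_tv_mulVec (by rw [smul_dotProduct, S.g₂.dual_dot, S.g₂.alt, smul_zero]),
    show ctr (c • S.g₂.dual e) z = c • S.pi e z from funext fun i => smul_dotProduct c (S.g₂.dual e) (fun j => z (i, j)), map_smul]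

theorem pi_kr (k : GL (Fin a) F) (d : Fin b → F) (z : Fin a × Fin b → F) :
    S.pi d ((kr k (1 : GL (Fin b) F) : Matrix (Fin a × Fin b) (Fin a × Fin b) F) *ᵥ z) =
      (k : Matrix (Fin a) (Fin a) F) *ᵥ S.pi d z := by
  conv_lhs => rw [eq_sum_emb z]
  conv_rhs => rw [eq_sum_emb z]
  simp only [mulVec_sum, map_sum, kr_emb, Units.val_one, one_mulVec, pi_emb, mulVec_smul]

theorem kr_right_emb (x : Fin a → F) (c : F) (d : Fin b → F) (y : Fin a → F) :
    (kr (S.g₁.gl x c) (1 : GL (Fin b) F) : Matrix (Fin a × Fin b) (Fin a × Fin b) F) *ᵥ emb d y =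
      emb d y + (c * S.g₁.form x y) • emb d x := by
  rw [kr_emb, Units.val_one, one_mulVec, S.g₁.gl_mulVec, map_add, map_smul]

/-- The set of `T` with `1 + T` a product of root elements. -/
def InE (T : (Fin a × Fin b → F) →ₗ[F] (Fin a × Fin b → F)) : Prop :=
  ∃ g ∈ eichGroup S.Q, ∀ z, g.1 z = z + T z

theorem inE_sum {ι : Type*} (s : Finset ι) (T : ι → (Fin a × Fin b → F) →ₗ[F] (Fin a × Fin b → F))
    (hT : ∀ i ∈ s, S.InE (T i)) (h0 : ∀ i ∈ s, ∀ j ∈ s, ∀ z, T i (T j z) = 0) :
    S.InE (∑ i ∈ s, T i) := by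
  classical
  induction s using Finset.induction_on with
  | empty => exact ⟨1, one_mem _, fun z => by simp⟩
  | insert i s hi ih =>
    obtain ⟨g, hg, hgx⟩ := hT i (Finset.mem_insert_self i s)
    obtain ⟨g', hg', hgx'⟩ := ih (fun j hj => hT j (Finset.mem_insert_of_mem hj))
      (fun j hj k hk => h0 j (Finset.mem_insert_of_mem hj) k (Finset.mem_insert_of_mem hk))
    refine ⟨g * g', mul_mem hg hg', fun z => ?_⟩
    rw [Finset.sum_insert hi, UnitaryOrthogonal.coe_mul_apply, hgx', hgx, map_add, LinearMap.add_apply,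
      LinearMap.sum_apply, map_sum,
      Finset.sum_eq_zero fun j hj => h0 i (Finset.mem_insert_self i s) j (Finset.mem_insert_of_mem hj) z]
    abel

theorem inE_pair {u v : Fin a × Fin b → F} (hu : S.Q u = 0) (hv : S.Q v = 0)
    (huv : polar S.Q u v = 0) (c : F) :
    S.InE (c • ((polarBilin S.Q u).smulRight v - (polarBilin S.Q v).smulRight u)) := by
  refine ⟨eich S.Q u (c • v), eich_mem_eichGroup _ _, fun z => ?_⟩
  rw [eich_apply hu (by rw [polar_smul_right, huv, smul_zero]), QuadraticMap.map_smul, hv,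
    polar_smul_left]
  simp only [smul_zero, zero_mul, zero_smul, sub_zero, LinearMap.smul_apply, LinearMap.sub_apply,
    LinearMap.smulRight_apply, polarBilin_apply_apply, smul_eq_mul]
  module

theorem inE_left (e : Fin b → F) (c : F) : S.InE (c • (emb e ∘ₗ S.pi e)) := by
  classical
  choose d hd using fun j : Fin a => S.g₁.exists_rep (LinearMap.proj j : (Fin a → F) →ₗ[F] F)
  let u : Fin a → (Fin a × Fin b → F) := fun j => emb e (Pi.single j 1)
  let T : Fin a → Fin a → (Fin a × Fin b → F) →ₗ[F] (Fin a × Fin b → F) := fun j k =>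
    (c * d j k) • ((polarBilin S.Q (u k)).smulRight (u j) - (polarBilin S.Q (u j)).smulRight (u k))
  have hskew : ∀ j k, d j k = S.g₁.form (d k) (d j) := fun j k => (hd k (d j)).symm
  have hsum : c • (emb e ∘ₗ S.pi e) =
      ∑ p ∈ (Finset.univ : Finset (Fin a × Fin a)).filter (fun p => p.1 < p.2), T p.1 p.2 := by
    refine LinearMap.ext fun z => ?_
    have hy : ∀ y : Fin a → F, emb e y = ∑ j, ∑ k, (d j k * S.g₁.form (Pi.single k 1) y) • u j := by
      intro y
      simp only [u, ← map_smul, ← map_sum]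
      congr 1
      funext i
      simp only [Finset.sum_apply, Pi.smul_apply, Pi.single_apply, smul_eq_mul, mul_ite, mul_one, mul_zero]
      rw [Finset.sum_comm, ← show S.g₁.form (d i) y = y i from hd i y]
      conv_lhs => rw [pi_eq_sum_univ' (d i)]
      simp [map_sum, Finset.sum_ite_eq]
    rw [LinearMap.smul_apply, LinearMap.comp_apply, hy, sum_alternating _ (fun j => by
      rw [hskew, S.g₁.alt, zero_mul, zero_smul]), LinearMap.sum_apply, Finset.smul_sum]
    refine Finset.sum_congr rfl fun p _ => ?_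
    simp only [T, LinearMap.smul_apply, LinearMap.sub_apply, LinearMap.smulRight_apply,
      polarBilin_apply_apply, u, S.polar_emb]
    rw [show d p.2 p.1 = -d p.1 p.2 by rw [hskew, hskew p.1, S.g₁.skew]]
    module
  rw [hsum]
  refine S.inE_sum _ _ (fun p _ => S.inE_pair (S.pure _ _) (S.pure _ _)
    (by rw [S.pol, S.g₂.alt, mul_zero]) _) fun p _ q _ z => ?_
  simp only [T, LinearMap.smul_apply, LinearMap.sub_apply, LinearMap.smulRight_apply,
    polarBilin_apply_apply, u, map_smul, map_sub, polar_smul_right, polar_sub_right, S.pol, S.g₂.alt,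
    mul_zero, smul_zero, sub_zero, zero_smul]

theorem inE_right (x : Fin a → F) (c : F) :
    ∃ g ∈ eichGroup S.Q, ∀ z, g.1 z =
      (kr (S.g₁.gl x c) (1 : GL (Fin b) F) : Matrix (Fin a × Fin b) (Fin a × Fin b) F) *ᵥ z := by
  classical
  choose d hd using fun j : Fin b => S.g₂.exists_rep (LinearMap.proj j : (Fin b → F) →ₗ[F] F)
  let u : Fin b → (Fin a × Fin b → F) := fun j => emb (Pi.single j 1) x
  let T : Fin b → Fin b → (Fin a × Fin b → F) →ₗ[F] (Fin a × Fin b → F) := fun j k =>
    (c * d j k) • ((polarBilin S.Q (u k)).smulRight (u j) - (polarBilin S.Q (u j)).smulRight (u k))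
  have hskew : ∀ j k, d j k = S.g₂.form (d k) (d j) := fun j k => (hd k (d j)).symm
  obtain ⟨g, hg, hgx⟩ := S.inE_sum
    ((Finset.univ : Finset (Fin b × Fin b)).filter fun p => p.1 < p.2) (fun p => T p.1 p.2)
    (fun p _ => S.inE_pair (S.pure _ _) (S.pure _ _) (by rw [S.pol, S.g₁.alt, zero_mul]) _)
    (fun p _ q _ z => by
      simp only [T, LinearMap.smul_apply, LinearMap.sub_apply, LinearMap.smulRight_apply,
        polarBilin_apply_apply, u, map_smul, map_sub, polar_smul_right, polar_sub_right, S.pol,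
        S.g₁.alt, zero_mul, smul_zero, sub_zero, zero_smul])
  refine ⟨g, hg, fun z => ?_⟩
  rw [hgx]
  conv_rhs => rw [eq_sum_emb z]
  simp only [mulVec_sum, kr_right_emb, Finset.sum_add_distrib]
  rw [← eq_sum_emb z]
  congr 1
  have hb : ∀ j (_ : j ∈ (Finset.univ : Finset (Fin b))),
      (c * S.g₁.form x (col z j)) • emb (Pi.single j 1) x =
      ∑ k, (c * d j k * polar S.Q (u k) z) • u j := by
    intro j _
    simp only [u, ← Finset.sum_smul]
    congr 1
    simp only [mul_assoc, ← Finset.mul_sum]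
    congr 1
    have h1 : S.pi (d j) z = col z j := by
      conv_lhs => rw [eq_sum_emb z]
      simp [map_sum, pi_emb, hd, Pi.single_apply]
    rw [← h1, ← S.polar_emb]
    conv_lhs => rw [show emb (d j) x = ∑ k, d j k • emb (a := a) (Pi.single k (1 : F)) x from funext fun p => by
      simp [emb, Pi.single_apply, Finset.sum_apply, mul_comm]]
    rw [← polarBilin_apply_apply, map_sum, LinearMap.sum_apply]
    exact Finset.sum_congr rfl fun k _ => by rw [polarBilin_apply_apply, polar_smul_left, smul_eq_mul]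
  rw [Finset.sum_congr rfl hb, sum_alternating _ (fun j => by
    rw [hskew, S.g₂.alt, mul_zero, zero_mul, zero_smul]), LinearMap.sum_apply]
  refine Finset.sum_congr rfl fun p _ => ?_
  simp only [T, LinearMap.smul_apply, LinearMap.sub_apply, LinearMap.smulRight_apply, polarBilin_apply_apply]
  rw [show d p.2 p.1 = -d p.1 p.2 by rw [hskew, hskew p.1, S.g₂.skew]]
  module

end TS

end Cfsg.Agent.TensorSp
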