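import Cfsg.Agent.TensorSp.Lines
import Cfsg.Agent.TensorMax.LineStab

/-!
Elements acting as `x ⊗ d ↦ x ⊗ d + Φ_d(x) ⊗ e` on `F^a ⊗ e^⊥`, and their commutators (helper99).
-/

set_option autoImplicit false
set_option linter.unusedSectionVars false
set_option linter.unusedSimpArgs false

namespace Cfsg.Agent.TensorSp

open Matrix Cfsg.Agent.TensorMax Cfsg.Agent.MaxSub

variable {F : Type*} [Field F] {a b : ℕ}

/-- Not a scalar. -/
def NS {n : ℕ} (α : (Fin n → F) →ₗ[F] (Fin n → F)) : Prop := ∀ c : F, α ≠ c • LinearMap.id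

theorem NS.exists_not_eigen {n : ℕ} {α : (Fin n → F) →ₗ[F] (Fin n → F)} (h : NS α) :
    ∃ x, α x ∉ Submodule.span F {x} := by
  obtain ⟨u, -, hu⟩ := TensorMax.exists_not_eigen (α := LinearMap.toMatrix' α) fun c hc => h c (by
    have := congrArg Matrix.toLin' hc
    rwa [Matrix.toLin'_toMatrix', map_smul, Matrix.toLin'_one] at this)
  refine ⟨u, ?_⟩
  rwa [← Matrix.toLin'_apply, Matrix.toLin'_toMatrix'] at hu

theorem NS.smul {n : ℕ} {α : (Fin n → F) →ₗ[F] (Fin n → F)} (h : NS α) {c : F} (hc : c ≠ 0) :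
    NS (c • α) := fun d hd => h (c⁻¹ * d) (by rw [← smul_smul, ← hd, inv_smul_smul₀ hc])

variable (S : TS F a b) (H : Subgroup (GL (Fin a × Fin b) F))

/-- The map `x ⊗ d ↔ x ⊗ e` root shape. -/
noncomputable def R (α : (Fin a → F) →ₗ[F] (Fin a → F)) (e d : Fin b → F) :
    (Fin a × Fin b → F) →ₗ[F] (Fin a × Fin b → F) :=
  emb d ∘ₗ α ∘ₗ S.pi e + emb e ∘ₗ S.g₁.adj α ∘ₗ S.pi d

theorem R_apply (α : (Fin a → F) →ₗ[F] (Fin a → F)) (e d : Fin b → F) (z : Fin a × Fin b → F) :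
    R S α e d z = emb d (α (S.pi e z)) + emb e (S.g₁.adj α (S.pi d z)) := rfl

theorem R_zero_comp {α β : (Fin a → F) →ₗ[F] (Fin a → F)} {e d p q : Fin b → F}
    (h1 : S.g₂.form e p = 0) (h2 : S.g₂.form e q = 0) (h3 : S.g₂.form d p = 0)
    (h4 : S.g₂.form d q = 0) (z : Fin a × Fin b → F) : R S α e d (R S β p q z) = 0 := by
  simp only [R_apply, map_add, S.pi_emb, h1, h2, h3, h4, zero_smul, map_zero, add_zero]

theorem R_sq {α β : (Fin a → F) →ₗ[F] (Fin a → F)} {e d : Fin b → F} (h : S.g₂.form e d = 0)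
    (z : Fin a × Fin b → F) : R S α e d (R S β e d z) = 0 :=
  R_zero_comp S (S.g₂.alt e) h (S.g₂.eq_zero_comm h) (S.g₂.alt d) z

theorem R_symm (α : (Fin a → F) →ₗ[F] (Fin a → F)) (e d : Fin b → F) :
    R S (S.g₁.adj α) d e = R S α e d := by
  rw [R, R, S.g₁.adj_adj, add_comm]

/-- `r` acts on `F^a ⊗ e^⊥` as a unipotent radical element. -/
def Rad (e : Fin b → F) (r : GL (Fin a × Fin b) F)
    (Φ : (Fin b → F) → ((Fin a → F) →ₗ[F] (Fin a → F))) : Prop :=
  ∀ d, S.g₂.form e d = 0 → ∀ y,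
    (r : Matrix (Fin a × Fin b) (Fin a × Fin b) F) *ᵥ emb d y = emb d y + emb e (Φ d y)

variable {S H}

theorem Rad.phi_add {e : Fin b → F} (he : e ≠ 0) {r : GL (Fin a × Fin b) F}
    {Φ : (Fin b → F) → ((Fin a → F) →ₗ[F] (Fin a → F))} (h : Rad S e r Φ) {d d' : Fin b → F}
    (hd : S.g₂.form e d = 0) (hd' : S.g₂.form e d' = 0) : Φ (d + d') = Φ d + Φ d' := by
  refine LinearMap.ext fun y => emb_injective he ?_
  have h1 := h (d + d') (by rw [map_add, hd, hd', add_zero]) y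
  rw [TS.emb_add_left, LinearMap.add_apply, mulVec_add, h d hd, h d' hd'] at h1
  rw [LinearMap.add_apply, map_add]
  linear_combination (norm := module) -h1

theorem Rad.pi_inv {e : Fin b → F} {r : GL (Fin a × Fin b) F}
    {Φ : (Fin b → F) → ((Fin a → F) →ₗ[F] (Fin a → F))} (h : Rad S e r Φ) (hr : S.IsIsom r)
    {c : Fin b → F} (hc : S.g₂.form e c = 0) (z : Fin a × Fin b → F) :
    S.pi c (((r⁻¹ : GL (Fin a × Fin b) F) : Matrix (Fin a × Fin b) (Fin a × Fin b) F) *ᵥ z) =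
      S.pi c z + S.g₁.adj (Φ c) (S.pi e z) := by
  refine S.g₁.eq_of_forall fun x => ?_
  rw [hr.pi_inv, h c hc, QuadraticMap.polar_add_left, S.polar_emb, S.polar_emb, map_add, S.g₁.adj_spec]

/-- The commutator with a transvection-shaped element centred at `c ⊥ e`. -/
theorem exists_rad_comm (O : Over S H) {e c : Fin b → F}
    (hec : S.g₂.form e c = 0) {r : GL (Fin a × Fin b) F} (hrH : r ∈ H)
    {Φ : (Fin b → F) → ((Fin a → F) →ₗ[F] (Fin a → F))} (h : Rad S e r Φ)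
    {β : (Fin a → F) →ₗ[F] (Fin a → F)} (hg : InH H (emb c ∘ₗ β ∘ₗ S.pi c)) :
    ∃ r' ∈ H, Rad S e r' fun d => S.g₂.form c d • (Φ c ∘ₗ β) := by
  obtain ⟨g, hgH, hgx⟩ := hg
  refine ⟨r * g * r⁻¹ * g⁻¹, mul_mem (mul_mem (mul_mem hrH hgH) (inv_mem hrH)) (inv_mem hgH),
    fun d hd y => ?_⟩
  have hgi : ((g⁻¹ : GL (Fin a × Fin b) F) : Matrix (Fin a × Fin b) (Fin a × Fin b) F) *ᵥ emb d y =
      emb d y - S.g₂.form c d • emb c (β y) := by
    refine mulVec_injective g ?_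
    show _ *ᵥ _ = _ *ᵥ _
    rw [mulVec_inv_mulVec, hgx]
    simp only [LinearMap.comp_apply, map_sub, map_smul, S.pi_emb, S.g₂.alt, zero_smul, map_zero,
      smul_zero, sub_zero]
    abel
  have hmid : ∀ d', S.g₂.form e d' = 0 → ∀ y',
      ((r * g * r⁻¹ : GL (Fin a × Fin b) F) : Matrix (Fin a × Fin b) (Fin a × Fin b) F) *ᵥ emb d' y' =
        emb d' y' + S.g₂.form c d' • (emb c (β y') + emb e (Φ c (β y'))) := by
    intro d' hd' y'
    rw [Units.val_mul, Units.val_mul, ← mulVec_mulVec, ← mulVec_mulVec, hgx, mulVec_add,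
      mulVec_inv_mulVec, LinearMap.comp_apply, LinearMap.comp_apply, h.pi_inv (O.isom r hrH) hec,
      S.pi_emb, S.pi_emb, hd', zero_smul, map_zero, add_zero, map_smul, map_smul,
      mulVec_smul, h c hec]
  rw [Units.val_mul, ← mulVec_mulVec, hgi, mulVec_sub, mulVec_smul, hmid d hd, hmid c hec, S.g₂.alt,
    zero_smul, add_zero]
  simp only [LinearMap.smul_apply, LinearMap.comp_apply, map_smul, smul_add]
  abel

theorem inH_left (O : Over S H) (e : Fin b → F) (c : F) : InH H (c • (emb e ∘ₗ S.pi e)) :=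
  ⟨_, O.left e c, fun z => S.kr_left e c z⟩

theorem inH_R_one (O : Over S H) {e d : Fin b → F} (h : S.g₂.form e d = 0) :
    InH H (R S LinearMap.id e d) := by
  have h' := S.g₂.eq_zero_comm h
  have h1 := inH_left O (e + d) 1
  have h2 := (inH_left O e 1).neg fun z => by simp [S.pi_emb, S.g₂.alt]
  have h3 := (inH_left O d 1).neg fun z => by simp [S.pi_emb, S.g₂.alt]
  have h4 := (h1.add h2 fun z => by simp [S.pi_emb, S.g₂.alt, h, h']).add h3
    fun z => by simp [S.pi_emb, S.g₂.alt, h, h']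
  convert h4 using 1
  refine LinearMap.ext fun z => ?_
  simp only [R_apply, S.g₁.adj_id, LinearMap.id_apply, one_smul, LinearMap.add_apply, LinearMap.neg_apply,
    LinearMap.comp_apply, TS.emb_add_left, S.pi_add_left, map_add]
  abel

/-- Isolating a single root shape. -/
theorem exists_R_of_rad (O : Over S H) {e c c' d : Fin b → F}
    (hec' : S.g₂.form e c' = 0) (hed : S.g₂.form e d = 0)
    (hcc' : S.g₂.form c c' = 1) (hcd : S.g₂.form c d = 0) (hc'd : S.g₂.form c' d = 0)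
    {α : (Fin a → F) →ₗ[F] (Fin a → F)} {r : GL (Fin a × Fin b) F} (hrH : r ∈ H)
    (h : Rad S e r fun d => S.g₂.form c d • α) : InH H (R S (S.g₁.adj α) e d) := by
  obtain ⟨g, hgH, hgx⟩ := inH_R_one O hc'd
  refine ⟨r * g * r⁻¹ * g⁻¹, mul_mem (mul_mem (mul_mem hrH hgH) (inv_mem hrH)) (inv_mem hgH), fun z => ?_⟩
  obtain ⟨w, rfl⟩ : ∃ w, (g : Matrix (Fin a × Fin b) (Fin a × Fin b) F) *ᵥ w = z :=
    ⟨_, mulVec_inv_mulVec g z⟩
  rw [Units.val_mul, ← mulVec_mulVec, inv_mulVec_mulVec, Units.val_mul, Units.val_mul, ← mulVec_mulVec,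
    ← mulVec_mulVec, hgx, mulVec_add, mulVec_inv_mulVec, R_apply, mulVec_add, h d hed, h c' hec',
    h.pi_inv (O.isom r hrH) hec', h.pi_inv (O.isom r hrH) hed, hgx]
  simp only [hcd, hcc', zero_smul, one_smul, LinearMap.zero_apply, map_zero, add_zero, R_apply,
    S.g₁.adj_id, LinearMap.id_apply, map_add, S.pi_emb, hec', hed, hc'd, S.g₂.eq_zero_comm hc'd,
    S.g₂.alt, S.g₁.adj_adj, S.g₁.adj_smul]
  rw [show S.g₁.adj (0 : (Fin a → F) →ₗ[F] (Fin a → F)) = 0 from S.g₁.adj_eq fun y y' => by simp]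
  simp only [LinearMap.zero_apply, map_zero, add_zero]
  abel

end Cfsg.Agent.TensorSp
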