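import Cfsg.Agent.TensorSp.Stab

/-!
The blocks of the root shapes in an overgroup form a ring containing every rank one map (helper99).
-/

set_option autoImplicit false
set_option linter.unusedSectionVars false
set_option linter.unusedSimpArgs false

namespace Cfsg.Agent.TensorSp

open Matrix Cfsg.Agent.TensorMax Cfsg.Agent.MaxSub

variable {F : Type*} [Field F] {a b : ℕ}

namespace SForm

variable {n : ℕ} (g : SForm F n)

theorem exists_perp {k : ℕ} (w : Fin k → (Fin n → F)) (p : Fin n → F) (h : k + 1 < n) :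
    ∃ v, (∀ i, g.form (w i) v = 0) ∧ v ∉ Submodule.span F {p} := by
  by_contra hc
  push Not at hc
  let L : (Fin n → F) →ₗ[F] (Fin k → F) := LinearMap.pi fun i => g.form (w i)
  have hle : LinearMap.ker L ≤ Submodule.span F {p} := fun v hv =>
    hc v fun i => congrFun (LinearMap.mem_ker.mp hv) i
  have h1 : Module.finrank F (LinearMap.ker L) ≤ 1 :=
    (Submodule.finrank_mono hle).trans ((finrank_span_le_card (R := F) _).trans (by simp))
  have h2 := L.finrank_range_add_finrank_ker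
  have h3 : Module.finrank F (LinearMap.range L) ≤ k := by
    simpa using (LinearMap.range L).finrank_le
  rw [Module.finrank_fin_fun] at h2
  omega

theorem exists_ne_two {x u w : Fin n → F} (hu : u ∉ Submodule.span F {x})
    (hw : w ∉ Submodule.span F {x}) :
    ∃ m, g.form x m = 0 ∧ g.form u m ≠ 0 ∧ g.form w m ≠ 0 := by
  have ex : ∀ {u}, u ∉ Submodule.span F {x} → ∃ m, g.form x m = 0 ∧ g.form u m ≠ 0 := by
    intro u hu
    by_cases hx : x = 0
    · obtain ⟨m, hm⟩ := g.exists_one (v := u) (fun h => hu (h ▸ zero_mem _))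
      exact ⟨m, by simp [hx], by simp [hm]⟩
    obtain ⟨m, hm⟩ := g.exists_prescribed
      (show LinearIndependent F ![x, u] from (LinearIndependent.pair_iff' hx).mpr fun r hr =>
        hu (Submodule.mem_span_singleton.mpr ⟨r, hr⟩)) ![0, 1]
    exact ⟨m, g.eq_zero_comm (hm 0), by rw [g.skew, show g.form m u = 1 from hm 1]; simp⟩
  obtain ⟨m1, h1, h1'⟩ := ex hu
  obtain ⟨m2, h2, h2'⟩ := ex hw
  by_cases hA : g.form w m1 = 0
  · by_cases hB : g.form u m2 = 0
    · exact ⟨m1 + m2, by simp [h1, h2], by simp [hB, h1'], by simp [hA, h2']⟩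
    · exact ⟨m2, h2, hB, h2'⟩
  · exact ⟨m1, h1, h1', hA⟩

theorem adj_neg (α : (Fin n → F) →ₗ[F] (Fin n → F)) : g.adj (-α) = -g.adj α :=
  g.adj_eq fun y y' => by simp [g.adj_spec]

theorem adj_zero : g.adj (0 : (Fin n → F) →ₗ[F] (Fin n → F)) = 0 :=
  g.adj_eq fun y y' => by simp

/-- The transvection as a linear map. -/
def sg (x : Fin n → F) (c : F) : (Fin n → F) →ₗ[F] (Fin n → F) := LinearMap.id + c • g.rankOne x x

theorem sg_apply (x : Fin n → F) (c : F) (y : Fin n → F) :
    g.sg x c y = (g.gl x c : Matrix (Fin n) (Fin n) F) *ᵥ y := by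
  rw [g.gl_mulVec, ← smul_smul]; rfl

theorem adj_sg (x : Fin n → F) (c : F) : g.adj (g.sg x c) = g.sg x (-c) := by
  rw [sg, sg, g.adj_add, g.adj_id, g.adj_smul, g.adj_rankOne]
  module

theorem sg_form (x : Fin n → F) (c : F) (y y' : Fin n → F) :
    g.form (g.sg x c y) (g.sg x c y') = g.form y y' := by
  rw [g.sg_apply, g.sg_apply, g.gl_form]

theorem sg_neg_sg (x : Fin n → F) (c : F) (y : Fin n → F) : g.sg x (-c) (g.sg x c y) = y := by
  rw [g.sg_apply, g.sg_apply, ← g.gl_inv, inv_mulVec_mulVec]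

theorem sg_sg_neg (x : Fin n → F) (c : F) (y : Fin n → F) : g.sg x c (g.sg x (-c) y) = y := by
  have := g.sg_neg_sg x (-c) y
  rwa [neg_neg] at this

/-- Rank one maps conjugated by a transvection. -/
theorem sg_rankOne (z : Fin n → F) (c : F) (v u : Fin n → F) :
    g.sg z c ∘ₗ g.rankOne v u ∘ₗ g.sg z (-c) = g.rankOne (g.sg z c v) (g.sg z c u) := by
  refine LinearMap.ext fun y => ?_
  simp only [LinearMap.comp_apply, g.rankOne_apply, map_smul]
  rw [← g.sg_form z c u (g.sg z (-c) y), g.sg_sg_neg]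

end SForm

variable (S : TS F a b) (H : Subgroup (GL (Fin a × Fin b) F))

/-- The root shapes with block `α` lie in `H`. -/
def G (α : (Fin a → F) →ₗ[F] (Fin a → F)) : Prop :=
  ∀ e d : Fin b → F, S.g₂.form e d = 0 → e ≠ 0 → d ∉ Submodule.span F {e} → InH H (R S α e d)

variable {S H}

theorem G_of_pair (O : Over S H) {α : (Fin a → F) →ₗ[F] (Fin a → F)} {e d : Fin b → F}
    (hed : S.g₂.form e d = 0) (he : e ≠ 0) (hd : d ∉ Submodule.span F {e}) (h : InH H (R S α e d)) :
    G S H α := by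
  intro e' d' hed' he' hd'
  obtain ⟨k₁, hk₁, hk₁e⟩ := S.g₂.exists_move_one he he'
  obtain ⟨-, hk₁I⟩ := closure_left_mem O hk₁
  set d₁ := (k₁ : Matrix (Fin b) (Fin b) F) *ᵥ d with hd₁
  have hed₁ : S.g₂.form e' d₁ = 0 := by rw [← hk₁e, hk₁I, hed]
  have hd₁' : d₁ ∉ Submodule.span F {e'} := fun h => by
    obtain ⟨r, hr⟩ := Submodule.mem_span_singleton.mp h
    refine hd (Submodule.mem_span_singleton.mpr ⟨r, mulVec_injective k₁ ?_⟩)
    show _ *ᵥ _ = _ *ᵥ _
    rw [mulVec_smul, hk₁e, hr]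
  obtain ⟨k₂, hk₂, hk₂e, hk₂d⟩ := S.g₂.exists_move hed₁ hed' hd₁' hd'
  obtain ⟨hκH, hκI⟩ := closure_left_mem O (mul_mem hk₂ hk₁)
  set k := k₂ * k₁ with hk
  have hke : (k : Matrix (Fin b) (Fin b) F) *ᵥ e = e' := by
    rw [hk, Units.val_mul, ← mulVec_mulVec, hk₁e, hk₂e]
  have hkd : (k : Matrix (Fin b) (Fin b) F) *ᵥ d = d' := by
    rw [hk, Units.val_mul, ← mulVec_mulVec, ← hd₁, hk₂d]
  obtain ⟨g, hgH, hgx⟩ := h
  refine ⟨kr 1 k * g * (kr 1 k)⁻¹, mul_mem (mul_mem hκH hgH) (inv_mem hκH), fun z => ?_⟩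
  obtain ⟨w, rfl⟩ : ∃ w, (kr 1 k : GL (Fin a × Fin b) F).1 *ᵥ w = z := ⟨_, mulVec_inv_mulVec _ z⟩
  rw [Units.val_mul, Units.val_mul, ← mulVec_mulVec, ← mulVec_mulVec, inv_mulVec_mulVec, hgx,
    mulVec_add, R_apply, R_apply, mulVec_add, kr_emb, kr_emb, hke, hkd, Units.val_one, one_mulVec,
    one_mulVec, ← hke, ← hkd, pi_kr_left hκI, pi_kr_left hκI]

theorem G.zero : G S H 0 := fun e d _ _ _ =>
  ⟨1, one_mem H, fun z => by simp [R_apply, S.g₁.adj_zero]⟩

theorem G.add {α β : (Fin a → F) →ₗ[F] (Fin a → F)} (hα : G S H α) (hβ : G S H β) : G S H (α + β) := by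
  intro e d hed he hd
  have h1 := (hα e d hed he hd).add (hβ e d hed he hd) (R_sq S hed)
  convert h1 using 1
  refine LinearMap.ext fun z => ?_
  simp only [R_apply, S.g₁.adj_add, LinearMap.add_apply, map_add]
  abel

theorem G.smul {α : (Fin a → F) →ₗ[F] (Fin a → F)} (hα : G S H α) (t : F) : G S H (t • α) := by
  intro e d hed he hd
  by_cases ht : t = 0
  · subst ht
    rw [zero_smul]
    exact G.zero e d hed he hd
  have h1 := hα e (t • d) (by rw [map_smul, hed, smul_zero]) he fun h => hd (by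
    have := Submodule.smul_mem _ t⁻¹ h
    rwa [inv_smul_smul₀ ht] at this)
  convert h1 using 1
  refine LinearMap.ext fun z => ?_
  simp only [R_apply, S.g₁.adj_smul, LinearMap.smul_apply, map_smul, TS.emb_smul_left, S.pi_smul_left]

theorem G.sub {α β : (Fin a → F) →ₗ[F] (Fin a → F)} (hα : G S H α) (hβ : G S H β) : G S H (α - β) := by
  rw [sub_eq_add_neg, ← neg_one_smul F β]
  exact hα.add (hβ.smul _)

theorem G.adj {α : (Fin a → F) →ₗ[F] (Fin a → F)} (hα : G S H α) : G S H (S.g₁.adj α) := by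
  intro e d hed he hd
  rw [R_symm S α d e]
  refine hα d e (S.g₂.eq_zero_comm hed) (fun h => hd (h ▸ zero_mem _)) fun h => ?_
  obtain ⟨r, rfl⟩ := Submodule.mem_span_singleton.mp h
  have hr : r ≠ 0 := fun h => he (by rw [h, zero_smul])
  exact hd (Submodule.mem_span_singleton.mpr ⟨r⁻¹, by rw [inv_smul_smul₀ hr]⟩)

theorem G.conj (O : Over S H) {α : (Fin a → F) →ₗ[F] (Fin a → F)} (hα : G S H α) (x : Fin a → F) (c : F) :
    G S H (S.g₁.sg x c ∘ₗ α ∘ₗ S.g₁.sg x (-c)) := by
  intro e d hed he hd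
  obtain ⟨g, hgH, hgx⟩ := hα e d hed he hd
  refine ⟨kr (S.g₁.gl x c) 1 * g * (kr (S.g₁.gl x c) 1)⁻¹,
    mul_mem (mul_mem (O.right x c) hgH) (inv_mem (O.right x c)), fun z => ?_⟩
  obtain ⟨w, rfl⟩ : ∃ w, (kr (S.g₁.gl x c) 1 : GL (Fin a × Fin b) F).1 *ᵥ w = z :=
    ⟨_, mulVec_inv_mulVec _ z⟩
  rw [Units.val_mul, Units.val_mul, ← mulVec_mulVec, ← mulVec_mulVec, inv_mulVec_mulVec, hgx,
    mulVec_add, R_apply, R_apply, mulVec_add, kr_emb, kr_emb, S.pi_kr, S.pi_kr, Units.val_one,
    one_mulVec, one_mulVec, S.g₁.adj_comp, S.g₁.adj_comp, S.g₁.adj_sg, S.g₁.adj_sg, neg_neg]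
  simp only [LinearMap.comp_apply, ← S.g₁.sg_apply, S.g₁.sg_neg_sg, S.g₁.sg_sg_neg]

/-- The blocks are closed under composition. -/
theorem G.comp (hb : 6 ≤ b) {α β : (Fin a → F) →ₗ[F] (Fin a → F)}
    (hα : G S H α) (hβ : G S H β) (O : Over S H) : G S H (β ∘ₗ α) := by
  obtain ⟨q, hq⟩ : ∃ q : Fin b → F, q ≠ 0 := ⟨fun _ => 1, fun h => one_ne_zero (congrFun h ⟨0, by omega⟩)⟩
  obtain ⟨u, hqu⟩ := S.g₂.exists_one hq
  obtain ⟨p, hp, hp0⟩ := S.g₂.exists_perp ![q, u] 0 (by omega)
  obtain ⟨v, hv, hv0⟩ := S.g₂.exists_perp ![q, u, p] p (by omega)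
  have hp0' : p ≠ 0 := fun h => hp0 (by rw [h]; exact zero_mem _)
  have h1 : S.g₂.form q p = 0 := hp 0
  have h2 : S.g₂.form u p = 0 := hp 1
  have h3 : S.g₂.form q v = 0 := hv 0
  have h4 : S.g₂.form u v = 0 := hv 1
  have h5 : S.g₂.form p v = 0 := hv 2
  have h1' := S.g₂.eq_zero_comm h1
  have h2' := S.g₂.eq_zero_comm h2
  have h3' := S.g₂.eq_zero_comm h3
  have h4' := S.g₂.eq_zero_comm h4
  have h5' := S.g₂.eq_zero_comm h5
  have hu : u ≠ 0 := fun h => by rw [h, map_zero] at hqu; exact zero_ne_one hqu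
  have hqp : q ∉ Submodule.span F {p} := fun h => by
    obtain ⟨r, rfl⟩ := Submodule.mem_span_singleton.mp h
    simp [h2'] at hqu
  have hvu : v ∉ Submodule.span F {u} := fun h => by
    obtain ⟨r, rfl⟩ := Submodule.mem_span_singleton.mp h
    rw [map_smul, hqu, smul_eq_mul, mul_one] at h3
    exact hv0 (by rw [h3, zero_smul]; exact zero_mem _)
  have huq : S.g₂.form u q = -1 := by rw [S.g₂.skew, hqu]
  refine G_of_pair O h5 hp0' hv0 ?_
  have key := (hα p q h1' hp0' hqp).comm (hβ u v h4 hu hvu) (R_sq S h1') (R_sq S h4)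
    (fun z => by simp [R_apply, S.pi_emb, S.g₂.alt, h1, h2, h3, h4, h5, h1', h2', h3', h4', h5', hqu, huq])
    (fun z => by simp [R_apply, S.pi_emb, S.g₂.alt, h1, h2, h3, h4, h5, h1', h2', h3', h4', h5', hqu, huq])
  convert key using 1
  refine LinearMap.ext fun z => ?_
  simp only [LinearMap.sub_apply, LinearMap.comp_apply, R_apply, map_add, map_smul, map_zero,
    S.pi_emb, S.g₂.alt, h1, h2, h3, h4, h5, h1', h2', h3', h4', h5', hqu, huq, zero_smul, one_smul,
    neg_smul, map_neg, S.g₁.adj_comp, add_zero, zero_add]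
  abel

/-- A non-scalar block. -/
theorem exists_G_ns (O : Over S H) (hb : 6 ≤ b) {e : Fin b → F} (he : e ≠ 0)
    {r : GL (Fin a × Fin b) F} (hrH : r ∈ H)
    {Φ : (Fin b → F) → ((Fin a → F) →ₗ[F] (Fin a → F))} (h : Rad S e r Φ)
    {d₀ : Fin b → F} (hd₀ : S.g₂.form e d₀ = 0) (hns : NS (Φ d₀)) :
    ∃ α, G S H α ∧ NS α := by
  obtain ⟨c, hec, hce, hcns⟩ : ∃ c, S.g₂.form e c = 0 ∧ c ∉ Submodule.span F {e} ∧ NS (Φ c) := by
    by_cases hd : d₀ ∈ Submodule.span F {e}
    · obtain ⟨d₁, hd₁, hd₁'⟩ := S.g₂.exists_perp ![e] e (by omega)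
      have hd₁e : S.g₂.form e d₁ = 0 := hd₁ 0
      by_cases h1 : NS (Φ d₁)
      · exact ⟨d₁, hd₁e, hd₁', h1⟩
      refine ⟨d₁ + d₀, by rw [map_add, hd₁e, hd₀, add_zero],
        fun h => hd₁' (by simpa using sub_mem h hd), fun t ht => ?_⟩
      simp only [NS, not_forall, not_not] at h1
      obtain ⟨s, hs⟩ := h1
      rw [h.phi_add he hd₁e hd₀, hs] at ht
      refine hns (t - s) (LinearMap.ext fun y => ?_)
      have h2 := LinearMap.congr_fun ht y
      simp only [LinearMap.add_apply, LinearMap.smul_apply, LinearMap.id_apply] at h2 ⊢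
      rw [sub_smul, ← h2, add_sub_cancel_left]
    · exact ⟨d₀, hd₀, hd, hns⟩
  obtain ⟨r', hr'H, hr'⟩ := exists_rad_comm O hec hrH h (β := LinearMap.id) (by
    have h1 := inH_left O c 1
    rwa [one_smul] at h1)
  rw [LinearMap.comp_id] at hr'
  obtain ⟨c', hc'⟩ := S.g₂.exists_prescribed
    (show LinearIndependent F ![e, c] from (LinearIndependent.pair_iff' he).mpr fun t ht =>
      hce (Submodule.mem_span_singleton.mpr ⟨t, ht⟩)) ![0, -1]
  have hec' : S.g₂.form e c' = 0 := S.g₂.eq_zero_comm (hc' 0)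
  have hcc' : S.g₂.form c c' = 1 := by rw [S.g₂.skew, show S.g₂.form c' c = -1 from hc' 1, neg_neg]
  obtain ⟨d, hd, hde⟩ := S.g₂.exists_perp ![e, c, c'] e (by omega)
  exact ⟨Φ c, by
    have h1 := G_of_pair O (hd 0) he hde (exists_R_of_rad O hec' (hd 0) hcc' (hd 1) (hd 2) hr'H hr')
    have h2 := h1.adj
    rwa [S.g₁.adj_adj] at h2, hcns⟩

/-- The block `D` of a conjugate minus the block itself. -/
theorem G.diff (O : Over S H) {α : (Fin a → F) →ₗ[F] (Fin a → F)} (hα : G S H α) (x : Fin a → F) (c : F) :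
    G S H (c • (S.g₁.rankOne x x ∘ₗ α - α ∘ₗ S.g₁.rankOne x x) -
      (c * c * S.g₁.form x (α x)) • S.g₁.rankOne x x) := by
  convert (hα.conj O x c).sub hα using 1
  refine LinearMap.ext fun y => ?_
  simp only [SForm.sg, LinearMap.sub_apply, LinearMap.smul_apply, LinearMap.comp_apply, LinearMap.add_apply,
    LinearMap.id_apply, SForm.rankOne_apply, map_add, map_smul, map_neg, neg_smul, LinearMap.neg_apply,
    smul_eq_mul]
  module

theorem exists_rankOne_self_aux (O : Over S H) (hb : 6 ≤ b) {α : (Fin a → F) →ₗ[F] (Fin a → F)}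
    (hα : G S H α) {x : Fin a → F} (hx : α x ∉ Submodule.span F {x}) (hk : S.g₁.form x (α x) = 0) :
    ∃ x, x ≠ 0 ∧ G S H (S.g₁.rankOne x x) := by
  refine ⟨x, fun h => hx (by rw [h, map_zero]; exact zero_mem _), ?_⟩
  set g := S.g₁ with hg
  set u := g.adj α x with hu
  set w := α x with hw
  have hux : g.form u x = 0 := g.eq_zero_comm (by
    rw [hu, ← g.adj_spec, ← hw]; exact g.eq_zero_comm hk)
  have hD : G S H (g.rankOne x u - g.rankOne w x) := by
    convert hα.diff O x 1 using 1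
    refine LinearMap.ext fun y => ?_
    simp only [← hg, hk, mul_zero, zero_smul, sub_zero, one_smul, LinearMap.sub_apply, LinearMap.comp_apply,
      g.rankOne_apply, map_smul, ← hw]
    congr 2
    rw [hu, g.adj_spec, g.adj_adj]
  by_cases hud : u ∈ Submodule.span F {x}
  · obtain ⟨μ, hμ⟩ := Submodule.mem_span_singleton.mp hud
    set v := μ • x - w with hv
    have hvx : v ∉ Submodule.span F {x} := fun h => hx (by
      simpa [hv] using sub_mem (Submodule.smul_mem _ μ (Submodule.mem_span_singleton_self x)) h)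
    have hD' : G S H (g.rankOne v x) := by
      convert hD using 1
      refine LinearMap.ext fun y => ?_
      simp only [← hμ, hv, g.rankOne_apply, LinearMap.sub_apply, map_smul, LinearMap.smul_apply,
        smul_eq_mul]
      module
    obtain ⟨z, hzx, hzv, -⟩ := g.exists_ne_two hvx hvx
    have hz1 : g.form z x = 0 := g.eq_zero_comm hzx
    have hz2 : g.form z v ≠ 0 := fun h => hzv (g.eq_zero_comm h)
    have hxv : g.form x v = 0 := by rw [hv, map_sub, map_smul, g.alt, smul_zero, hk, sub_zero]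
    have key : ∀ z, g.form z x = 0 → G S H (g.form z v • g.rankOne z x) := by
      intro z hz
      convert (hD'.conj O z 1).sub hD' using 1
      rw [g.sg_rankOne]
      refine LinearMap.ext fun y => ?_
      simp only [g.sg_apply, g.gl_mulVec, hz, mul_zero, zero_smul, add_zero, LinearMap.sub_apply,
        LinearMap.smul_apply, g.rankOne_apply, one_mul]
      module
    have h1 := ((key (z + x) (by rw [map_add, LinearMap.add_apply, hz1, g.alt, add_zero])).sub
      (key z hz1)).smul (g.form z v)⁻¹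
    convert h1 using 1
    refine LinearMap.ext fun y => ?_
    simp only [map_add, LinearMap.add_apply, hxv, add_zero, LinearMap.smul_apply, LinearMap.sub_apply,
      g.rankOne_apply]
    rw [← smul_sub, smul_add, add_sub_cancel_left, inv_smul_smul₀ hz2]
  · obtain ⟨z, hzx, hzu, hzw⟩ := g.exists_ne_two hud hx
    by_cases huw : g.form u w = 0
    · have hD' : G S H (g.rankOne (g.sg z 1 x) (g.sg z 1 u) - g.rankOne (g.sg z 1 w) (g.sg z 1 x)) := by
        convert hD.conj O z 1 using 1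
        rw [← g.sg_rankOne, ← g.sg_rankOne]
        exact LinearMap.ext fun y => by simp [LinearMap.comp_apply, map_sub, hg]
      have h1 := (hD'.comp hb hD O).smul ((g.form u z * g.form z w))⁻¹
      have hne : g.form u z * g.form z w ≠ 0 := mul_ne_zero hzu fun h => hzw (g.eq_zero_comm h)
      convert h1.smul (-1) using 1
      refine LinearMap.ext fun y => ?_
      simp only [g.sg_apply, g.gl_mulVec, g.eq_zero_comm hzx, mul_zero, zero_smul, add_zero, one_mul,
        LinearMap.smul_apply, LinearMap.comp_apply, LinearMap.sub_apply, g.rankOne_apply, map_sub,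
        map_add, map_smul, g.alt, hux, hzx, hk, huw, smul_eq_mul, smul_smul, zero_add, sub_zero, zero_sub]
      rw [smul_zero, zero_sub, smul_neg, smul_smul, ← neg_smul]
      congr 1
      have h2 : g.form z w ≠ 0 := fun h => hzw (g.eq_zero_comm h)
      field_simp
    · have h1 := (hD.comp hb hD O).smul (-(g.form u w)⁻¹)
      convert h1 using 1
      refine LinearMap.ext fun y => ?_
      simp only [LinearMap.smul_apply, LinearMap.comp_apply, LinearMap.sub_apply, g.rankOne_apply,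
        map_sub, map_smul, g.alt, hux, hk, smul_eq_mul, mul_zero, zero_smul, smul_zero, sub_zero, zero_sub,
        smul_smul, smul_neg]
      rw [← neg_smul]
      congr 1
      field_simp

theorem exists_rankOne_self (O : Over S H) (hb : 6 ≤ b) (hq : 3 ≤ a ∨ 3 ≤ Nat.card F)
    {α : (Fin a → F) →ₗ[F] (Fin a → F)} (hα : G S H α) (hns : NS α) :
    ∃ x, x ≠ 0 ∧ G S H (S.g₁.rankOne x x) := by
  obtain ⟨x, hx⟩ := hns.exists_not_eigen
  by_cases hk : S.g₁.form x (α x) = 0
  · exact exists_rankOne_self_aux O hb hα hx hk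
  set k := S.g₁.form x (α x)
  have hx0 : x ≠ 0 := fun h => hx (by rw [h, map_zero]; exact zero_mem _)
  rcases hq with ha | hq
  · let L : (Fin a → F) →ₗ[F] F × F := (S.g₁.form x).prod ((S.g₁.form x).comp α)
    obtain ⟨w, hw, hw0⟩ := Submodule.exists_mem_ne_zero_of_ne_bot
      (LinearMap.ker_ne_bot_of_finrank_lt (f := L) (by
        rw [Module.finrank_prod, Module.finrank_self, Module.finrank_fin_fun]; omega))
    have hw1 : S.g₁.form x w = 0 := congrArg Prod.fst (LinearMap.mem_ker.mp hw)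
    have hw2 : S.g₁.form x (α w) = 0 := congrArg Prod.snd (LinearMap.mem_ker.mp hw)
    have hDxw : (1 • (S.g₁.rankOne x x ∘ₗ α - α ∘ₗ S.g₁.rankOne x x) -
        ((1 : F) * 1 * S.g₁.form x (α x)) • S.g₁.rankOne x x) (x + w) = k • x := by
      simp [SForm.rankOne_apply, map_add, S.g₁.alt, hw1, hw2, k]
    refine exists_rankOne_self_aux O hb (hα.diff O x 1) (x := x + w) (fun h => ?_) ?_
    · rw [one_smul] at h hDxw
      rw [hDxw] at h
      obtain ⟨r, hr⟩ := Submodule.mem_span_singleton.mp h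
      have h1 := congrArg (fun z => S.g₁.form x (α z)) hr
      simp only [map_smul, map_add, hw2, smul_eq_mul, add_zero] at h1
      have hr' : r = k := mul_right_cancel₀ hk h1
      rw [hr', smul_add, add_eq_left] at hr
      exact smul_ne_zero hk hw0 hr
    · rw [one_smul] at hDxw ⊢
      rw [hDxw, map_smul, map_add, LinearMap.add_apply, S.g₁.alt, S.g₁.eq_zero_comm hw1, add_zero,
        smul_zero]
  · obtain ⟨c, hc0, hc1⟩ := TensorMax.exists_field_elt hq
    have hne : (c - c * c) * k ≠ 0 := mul_ne_zero (by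
      rw [show c - c * c = c * (1 - c) by ring]
      exact mul_ne_zero hc0 (sub_ne_zero.mpr (Ne.symm hc1))) hk
    refine ⟨x, hx0, ?_⟩
    convert (((hα.diff O x c).sub ((hα.diff O x 1).smul c))).smul ((c - c * c) * k)⁻¹ using 1
    rw [eq_inv_smul_iff₀ hne]
    module

/-- Every rank one map is a block. -/
theorem G_rankOne (O : Over S H) (hb : 6 ≤ b) (hq : 3 ≤ a ∨ 3 ≤ Nat.card F)
    {α : (Fin a → F) →ₗ[F] (Fin a → F)} (hα : G S H α) (hns : NS α) (x y : Fin a → F) :
    G S H (S.g₁.rankOne x y) := by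
  set g := S.g₁
  obtain ⟨x₀, hx₀, h₀⟩ := exists_rankOne_self O hb hq hα hns
  have hmove : ∀ k ∈ Subgroup.closure {x : GL (Fin a) F | ∃ u c, x = g.gl u c}, ∀ z,
      G S H (g.rankOne z z) ↔
        G S H (g.rankOne ((k : Matrix (Fin a) (Fin a) F) *ᵥ z) ((k : Matrix (Fin a) (Fin a) F) *ᵥ z)) := by
    intro k hk
    induction hk using Subgroup.closure_induction with
    | mem k hk =>
      obtain ⟨u, c, rfl⟩ := hk
      intro z
      rw [← g.sg_apply]
      refine ⟨fun h => g.sg_rankOne u c z z ▸ h.conj O u c, fun h => ?_⟩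
      have h1 := h.conj O u (-c)
      rwa [g.sg_rankOne, g.sg_neg_sg] at h1
    | one => simp
    | mul k l _ _ hk hl => intro z; rw [Units.val_mul, ← mulVec_mulVec]; exact (hl z).trans (hk _)
    | inv k _ hk =>
      intro z
      have h1 := hk (((k⁻¹ : GL (Fin a) F) : Matrix (Fin a) (Fin a) F) *ᵥ z)
      rw [mulVec_inv_mulVec] at h1
      exact h1.symm
  have hall : ∀ z, G S H (g.rankOne z z) := by
    intro z
    by_cases hz : z = 0
    · subst hz
      convert G.zero (S := S) (H := H) using 1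
      exact LinearMap.ext fun v => by simp [g.rankOne_apply]
    obtain ⟨k, hk, hkz⟩ := g.exists_move_one hx₀ hz
    exact hkz ▸ (hmove k hk x₀).mp h₀
  have hne : ∀ x y, g.form x y ≠ 0 → G S H (g.rankOne x y) := by
    intro x y hxy
    convert (((hall y).comp hb (hall x) O)).smul (g.form x y)⁻¹ using 1
    refine LinearMap.ext fun v => ?_
    simp only [LinearMap.smul_apply, LinearMap.comp_apply, g.rankOne_apply, map_smul, smul_eq_mul,
      smul_smul]
    congr 1
    field_simp
  by_cases hxy : g.form x y = 0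
  swap
  · exact hne x y hxy
  by_cases hx0 : x = 0
  · subst hx0
    convert G.zero (S := S) (H := H) using 1
    exact LinearMap.ext fun v => by simp [g.rankOne_apply]
  obtain ⟨m, hm⟩ := g.exists_one hx0
  convert (hne x (y + m) (by rw [map_add, hxy, zero_add, hm]; exact one_ne_zero)).sub
    (hne x m (hm ▸ one_ne_zero)) using 1
  exact LinearMap.ext fun v => by simp [g.rankOne_apply, add_smul]

end Cfsg.Agent.TensorSp
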