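import Cfsg.Agent.TensorSp.Rad

/-!
An element stabilising the line of `e` outside the tensor stabiliser gives a radical element with a
non-scalar block (helper99).
-/

set_option autoImplicit false
set_option linter.unusedSectionVars false
set_option linter.unusedSimpArgs false

namespace Cfsg.Agent.TensorSp

open Matrix Cfsg.Agent.TensorMax Cfsg.Agent.MaxSub

variable {F : Type*} [Field F] {a b : ℕ}

/-- The difference made by conjugating with a transvection. -/
theorem exists_ns_diff (g : SForm F a) (hq : 3 ≤ a ∨ 3 ≤ Nat.card F)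
    {P : (Fin a → F) →ₗ[F] (Fin a → F)} (hP : NS P) :
    ∃ (v : Fin a → F) (c : F),
      NS (c • (g.rankOne v v ∘ₗ P - P ∘ₗ g.rankOne v v) -
        (c * c * g.form v (P v)) • g.rankOne v v) := by
  obtain ⟨x, hx⟩ := hP.exists_not_eigen
  set k := g.form x (P x)
  have hx0 : x ≠ 0 := fun h => hx (by rw [h, map_zero]; exact zero_mem _)
  by_contra hno
  simp only [NS, not_exists, not_forall, not_not] at hno
  choose s hs using hno
  have hsx : ∀ c : F, s x c = c * k := by
    intro c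
    have h1 := LinearMap.congr_fun (hs x c) x
    simp only [LinearMap.sub_apply, LinearMap.smul_apply, LinearMap.comp_apply, SForm.rankOne_apply,
      g.alt, zero_smul, map_zero, smul_zero, sub_zero, LinearMap.id_apply, smul_smul] at h1
    exact (smul_left_injective F hx0 h1).symm
  obtain ⟨y, hy⟩ := g.exists_one hx0
  by_cases hk : k = 0
  · have h1 := LinearMap.congr_fun (hs x 1) y
    simp only [hsx, LinearMap.sub_apply, LinearMap.smul_apply, LinearMap.comp_apply, SForm.rankOne_apply,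
      hy, one_smul, LinearMap.id_apply, hk, k, mul_zero, zero_smul, sub_zero] at h1
    exact hx (Submodule.mem_span_singleton.mpr ⟨_, sub_eq_zero.mp h1⟩)
  rcases hq with ha | hq
  · let L : (Fin a → F) →ₗ[F] F × F := (g.form x).prod ((g.form x).comp P)
    obtain ⟨w, hw, hw0⟩ := Submodule.exists_mem_ne_zero_of_ne_bot
      (LinearMap.ker_ne_bot_of_finrank_lt (f := L) (by
        rw [Module.finrank_prod, Module.finrank_self, Module.finrank_fin_fun]; omega))
    have hw1 : g.form x w = 0 := congrArg Prod.fst (LinearMap.mem_ker.mp hw)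
    have hw2 : g.form x (P w) = 0 := congrArg Prod.snd (LinearMap.mem_ker.mp hw)
    have h1 := LinearMap.congr_fun (hs x 1) w
    simp only [hsx, LinearMap.sub_apply, LinearMap.smul_apply, LinearMap.comp_apply, SForm.rankOne_apply,
      hw1, hw2, zero_smul, map_zero, sub_zero, smul_zero, LinearMap.id_apply, one_mul] at h1
    exact smul_ne_zero hk hw0 h1.symm
  · obtain ⟨c, hc0, hc1⟩ := TensorMax.exists_field_elt hq
    have e1 := LinearMap.congr_fun (hs x c) y
    have e2 := LinearMap.congr_fun (hs x 1) y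
    simp only [hsx, LinearMap.sub_apply, LinearMap.smul_apply, LinearMap.comp_apply, SForm.rankOne_apply,
      hy, one_smul, LinearMap.id_apply, one_mul] at e1 e2
    change c • (g.form x (P y) • x - P x) - (c * c * k) • x = (c * k) • y at e1
    change g.form x (P y) • x - P x - k • x = k • y at e2
    have h1 : ((c - c * c) * k) • x = 0 := by linear_combination (norm := module) e1 - c • e2
    exact mul_ne_zero (by rw [show c - c * c = c * (1 - c) by ring]; exact mul_ne_zero hc0 (sub_ne_zero.mpr (Ne.symm hc1)))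
      hk ((smul_eq_zero.mp h1).resolve_right hx0)

variable {S : TS F a b} {H : Subgroup (GL (Fin a × Fin b) F)}

theorem closure_left_mem (O : Over S H) {k : GL (Fin b) F}
    (hk : k ∈ Subgroup.closure {x : GL (Fin b) F | ∃ u c, x = S.g₂.gl u c}) :
    kr (1 : GL (Fin a) F) k ∈ H ∧
      ∀ y y', S.g₂.form ((k : Matrix (Fin b) (Fin b) F) *ᵥ y) ((k : Matrix (Fin b) (Fin b) F) *ᵥ y') =
        S.g₂.form y y' := by
  induction hk using Subgroup.closure_induction with
  | mem x hx =>
    obtain ⟨u, c, rfl⟩ := hx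
    exact ⟨O.left u c, S.g₂.gl_form u c⟩
  | one =>
    refine ⟨?_, fun y y' => by simp⟩
    rw [show kr (1 : GL (Fin a) F) (1 : GL (Fin b) F) = 1 from Units.ext Matrix.one_kronecker_one]
    exact one_mem H
  | mul x y _ _ hx hy =>
    refine ⟨?_, fun z z' => by rw [Units.val_mul, ← mulVec_mulVec, ← mulVec_mulVec, hx.2, hy.2]⟩
    have : kr (1 : GL (Fin a) F) (x * y) = kr 1 x * kr 1 y := Units.ext (by
      rw [Units.val_mul, kr_coe, kr_coe, kr_coe, ← Matrix.mul_kronecker_mul, Units.val_mul, Units.val_one, mul_one])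
    rw [this]; exact mul_mem hx.1 hy.1
  | inv x _ hx =>
    refine ⟨?_, fun z z' => ?_⟩
    · have := inv_mem hx.1
      rwa [kr_inv, inv_one] at this
    · conv_rhs => rw [← mulVec_inv_mulVec x z, ← mulVec_inv_mulVec x z', hx.2]

/-- Transport of `x ⊗ e` shapes by isometries of the second factor. -/
theorem pi_kr_left {k : GL (Fin b) F}
    (hk : ∀ y y', S.g₂.form ((k : Matrix (Fin b) (Fin b) F) *ᵥ y) ((k : Matrix (Fin b) (Fin b) F) *ᵥ y') =
      S.g₂.form y y') (e : Fin b → F) (z : Fin a × Fin b → F) :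
    S.pi ((k : Matrix (Fin b) (Fin b) F) *ᵥ e)
      ((kr (1 : GL (Fin a) F) k : Matrix (Fin a × Fin b) (Fin a × Fin b) F) *ᵥ z) = S.pi e z := by
  rw [TS.eq_sum_emb z]
  simp only [mulVec_sum, map_sum, kr_emb, Units.val_one, one_mulVec, S.pi_emb, hk]

theorem exists_comp_basis {e f : Fin b → F} (hfe : S.g₂.form f e = 1) (d : Fin b → F) :
    ∃ (d₀ : Fin b → F) (t : F), S.g₂.form e d₀ = 0 ∧ d = d₀ + t • f := by
  refine ⟨d + S.g₂.form e d • f, -S.g₂.form e d, ?_, by module⟩
  rw [map_add, map_smul, smul_eq_mul, S.g₂.skew e f, hfe]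
  ring

/-- The main reduction. -/
theorem exists_rad_ns (O : Over S H) (ha : 2 ≤ a) (hb : 4 ≤ b) (hq : 3 ≤ a ∨ 3 ≤ Nat.card F)
    {e : Fin b → F} (he : e ≠ 0) {s : GL (Fin a × Fin b) F} (hsH : s ∈ H)
    (hsT : s ∉ Cfsg.Geo.kroneckerSubgroup a b F) (hse : LineTo s e e) :
    ∃ r ∈ H, ∃ (Φ : (Fin b → F) → ((Fin a → F) →ₗ[F] (Fin a → F))) (d : Fin b → F),
      Rad S e r Φ ∧ S.g₂.form e d = 0 ∧ NS (Φ d) := by
  classical
  by_contra hno
  push Not at hno
  have hsI := O.isom s hsH
  obtain ⟨f', hf'⟩ := S.g₂.exists_one he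
  set f := -f' with hf
  have hfe : S.g₂.form f e = 1 := by rw [hf, map_neg, LinearMap.neg_apply, S.g₂.skew f', hf', neg_neg]
  have hef : S.g₂.form e f = -1 := by rw [S.g₂.skew, hfe]
  set M := (s : Matrix (Fin a × Fin b) (Fin a × Fin b) F) with hM
  set M' := ((s⁻¹ : GL (Fin a × Fin b) F) : Matrix (Fin a × Fin b) (Fin a × Fin b) F) with hM'
  set α : (Fin a → F) →ₗ[F] (Fin a → F) := S.pi f ∘ₗ M.mulVecLin ∘ₗ emb e with hα
  have hsα : ∀ x, M *ᵥ emb e x = emb e (α x) := by
    intro x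
    obtain ⟨y, hy⟩ := hse x
    have : α x = y := by
      simp only [hα, LinearMap.comp_apply, mulVecLin_apply, hM, hy, S.pi_emb, hfe, one_smul]
    rw [this, hM, hy]
  have hαi : Function.Injective α := fun x y h => emb_injective he (mulVec_injective s (by
    show M *ᵥ _ = M *ᵥ _
    rw [hsα, hsα, h]))
  set αe := LinearEquiv.ofInjectiveEndo α hαi
  set α' : (Fin a → F) →ₗ[F] (Fin a → F) := αe.symm.toLinearMap with hα'
  have hαα' : ∀ x, α (α' x) = x := fun x => αe.apply_symm_apply x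
  have hα'α : ∀ x, α' (α x) = x := fun x => αe.symm_apply_apply x
  have hsα' : ∀ x, M' *ᵥ emb e x = emb e (α' x) := by
    intro x
    conv_lhs => rw [← hαα' x, ← hsα]
    exact inv_mulVec_mulVec s _
  have hpe : ∀ d, S.g₂.form e d = 0 → ∀ y, S.pi e (M *ᵥ emb d y) = 0 := by
    intro d hd y
    refine S.g₁.eq_of_forall fun x => ?_
    have h1 := hsI.inv.pi_inv e x (emb d y)
    rw [inv_inv, ← hM', hsα', S.pol, hd, mul_zero] at h1
    rw [h1, map_zero]
  -- the middle blocks
  let C : (Fin b → F) → (Fin b → F) → ((Fin a → F) →ₗ[F] (Fin a → F)) :=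
    fun b' d => S.pi b' ∘ₗ M.mulVecLin ∘ₗ emb d
  have hC : ∀ b', S.g₂.form e b' = 0 → ∀ d, S.g₂.form e d = 0 → ∃ c : F, C b' d = c • α := by
    intro b' hb' d hd
    obtain ⟨g, hgH, hgx⟩ := inH_R_one O hb'
    have hr : Rad S e (s⁻¹ * g * s) fun d => α' ∘ₗ C b' d := by
      intro d hd y
      rw [Units.val_mul, Units.val_mul, ← mulVec_mulVec, ← mulVec_mulVec, hgx, R_apply, ← hM,
        hpe d hd, map_zero, map_zero, zero_add, mulVec_add, inv_mulVec_mulVec, S.g₁.adj_id, ← hM',
        hsα']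
      rfl
    obtain ⟨c, hc⟩ : ∃ c : F, α' ∘ₗ C b' d = c • LinearMap.id := by
      have := hno _ (mul_mem (mul_mem (inv_mem hsH) hgH) hsH) _ d hr hd
      simpa [NS] using this
    refine ⟨c, LinearMap.ext fun y => ?_⟩
    have h1 := congrArg α (LinearMap.congr_fun hc y)
    simpa [hαα'] using h1
  -- blocks with a single non-scalar part
  have hblock : ∀ d, (∀ b', S.g₂.form e b' = 0 → ∃ c : F, C b' d = c • α) →
      ∃ (m : Fin b → F) (N : (Fin a → F) →ₗ[F] (Fin a → F)),
        ∀ y, M *ᵥ emb d y = emb m (α y) + emb e (N y) := by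
    intro d hd
    obtain ⟨y₀, hy₀⟩ : ∃ y₀ : Fin a → F, y₀ ≠ 0 :=
      ⟨fun _ => 1, fun h => one_ne_zero (congrFun h ⟨0, by omega⟩)⟩
    obtain ⟨x₁, hx₁⟩ := S.g₁.exists_one hy₀
    set ξ : (Fin b → F) →ₗ[F] F :=
      { toFun := fun b' => S.g₁.form y₀ (α' (S.pi b' (M *ᵥ emb d x₁)))
        map_add' := fun p q => by simp [S.pi_add_left]
        map_smul' := fun c p => by simp [S.pi_smul_left] }
    obtain ⟨m', hm'⟩ := S.g₂.exists_rep ξ
    refine ⟨-m', S.pi f ∘ₗ (M.mulVecLin ∘ₗ emb d - emb (-m') ∘ₗ α), fun y => ?_⟩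
    have h1 := S.eq_emb_of_pi hfe (z := M *ᵥ emb d y - emb (-m') (α y)) fun b' hb' => by
      obtain ⟨c, hc⟩ := hd b' hb'
      have hcc : ξ b' = c := by
        show S.g₁.form y₀ (α' (C b' d x₁)) = c
        rw [hc, LinearMap.smul_apply, map_smul, hα'α, map_smul, hx₁, smul_eq_mul, mul_one]
      rw [map_sub, show S.pi b' (M *ᵥ emb d y) = C b' d y from rfl, hc, S.pi_emb, map_neg,
        S.g₂.skew b' m', hm', hcc, neg_neg, LinearMap.smul_apply, sub_self]
    rw [sub_eq_iff_eq_add'] at h1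
    exact h1
  -- `α` is a similitude
  obtain ⟨k, hk0, hsim⟩ : ∃ k : F, k ≠ 0 ∧ ∀ y y', S.g₁.form (α y) (α y') = k * S.g₁.form y y' := by
    obtain ⟨d, hd, hd0⟩ : ∃ d, S.g₂.form e d = 0 ∧ d ∉ Submodule.span F {e} := by
      obtain ⟨d, hd⟩ : ∃ d, d ∉ Submodule.span F ({e, f} : Set (Fin b → F)) := by
        by_contra hc
        push Not at hc
        have h1 : Module.finrank F (Submodule.span F ({e, f} : Set (Fin b → F))) ≤ 2 := by
          refine (finrank_span_le_card (R := F) _).trans ?_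
          simp only [Set.toFinset_insert, Set.toFinset_singleton]
          exact Finset.card_le_two
        rw [Submodule.eq_top_iff'.mpr hc, finrank_top, Module.finrank_fin_fun] at h1
        omega
      obtain ⟨d₀, t, hd₀, rfl⟩ := exists_comp_basis (S := S) hfe d
      refine ⟨d₀, hd₀, fun h => hd (add_mem ?_ (Submodule.smul_mem _ _ (Submodule.subset_span (by simp))))⟩
      exact Submodule.span_mono (by simp) h
    obtain ⟨d', hd'e, hdd'⟩ : ∃ d', S.g₂.form e d' = 0 ∧ S.g₂.form d d' = 1 := by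
      obtain ⟨z, hz⟩ := S.g₂.exists_prescribed
        (show LinearIndependent F ![e, d] from LinearIndependent.pair_iff.mpr fun r t h => by
          by_cases ht : t = 0
          · subst ht
            rw [zero_smul, add_zero] at h
            exact ⟨(smul_eq_zero.mp h).resolve_right he, rfl⟩
          · refine absurd (Submodule.mem_span_singleton.mpr ⟨-(t⁻¹ * r), ?_⟩) hd0
            have h1 := congrArg (t⁻¹ • ·) h
            simp only [smul_add, smul_smul, inv_mul_cancel₀ ht, one_smul, smul_zero] at h1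
            linear_combination (norm := module) -h1) ![0, -1]
      exact ⟨z, S.g₂.eq_zero_comm (hz 0), by rw [S.g₂.skew, show S.g₂.form z d = -1 from hz 1, neg_neg]⟩
    obtain ⟨m, N, hN⟩ := hblock d fun b' hb' => hC b' hb' d hd
    obtain ⟨m', N', hN'⟩ := hblock d' fun b' hb' => hC b' hb' d' hd'e
    have hm : ∀ (d₁ : Fin b → F) m₁ (N₁ : (Fin a → F) →ₗ[F] (Fin a → F)), S.g₂.form e d₁ = 0 →
        (∀ y, M *ᵥ emb d₁ y = emb m₁ (α y) + emb e (N₁ y)) → S.g₂.form e m₁ = 0 := by
      intro d₁ m₁ N₁ hd₁ hN₁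
      have h1 := hpe d₁ hd₁ (α' fun _ => 1)
      rw [hN₁, map_add, S.pi_emb, S.pi_emb, S.g₂.alt, zero_smul, add_zero, hαα'] at h1
      exact (smul_eq_zero.mp h1).resolve_right fun h => one_ne_zero (congrFun h ⟨0, by omega⟩)
    have key : ∀ y y', S.g₁.form y y' = S.g₁.form (α y) (α y') * S.g₂.form m m' := by
      intro y y'
      have h1 := hsI.polar (emb d y) (emb d' y')
      rw [← hM, hN, hN'] at h1
      simp only [QuadraticMap.polar_add_left, QuadraticMap.polar_add_right, S.pol, S.g₂.alt,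
        hm d' m' N' hd'e hN', S.g₂.eq_zero_comm (hm d m N hd hN), hdd', mul_zero, add_zero, mul_one] at h1
      exact h1.symm
    have hmm : S.g₂.form m m' ≠ 0 := fun h => by
      obtain ⟨x, hx⟩ := S.g₁.exists_one (show (Pi.single ⟨0, by omega⟩ 1 : Fin a → F) ≠ 0 by simp)
      rw [key, h, mul_zero] at hx
      exact zero_ne_one hx
    exact ⟨(S.g₂.form m m')⁻¹, inv_ne_zero hmm, fun y y' => by
      rw [key y y']; field_simp⟩
  -- conjugating by transvections of the first factor
  have hmove : ∀ (v : Fin a → F) (c : F), ∃ r ∈ H, ∀ (d m : Fin b → F)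
      (N : (Fin a → F) →ₗ[F] (Fin a → F)), (∀ y, M *ᵥ emb d y = emb m (α y) + emb e (N y)) →
      ∀ y, (r : Matrix (Fin a × Fin b) (Fin a × Fin b) F) *ᵥ emb d y = emb d y +
        emb e ((c • (S.g₁.rankOne v v ∘ₗ (α' ∘ₗ N) - (α' ∘ₗ N) ∘ₗ S.g₁.rankOne v v) -
          (c * c * S.g₁.form v ((α' ∘ₗ N) v)) • S.g₁.rankOne v v) y) := by
    intro v c
    refine ⟨s⁻¹ * kr (S.g₁.gl (α v) (c / k)) 1 * s * (kr (S.g₁.gl v c) 1)⁻¹,
      mul_mem (mul_mem (mul_mem (inv_mem hsH) (O.right _ _)) hsH) (inv_mem (O.right _ _)),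
      fun d m N hN y => ?_⟩
    have hcomm : ∀ y, ((S.g₁.gl (α v) (c / k)) : Matrix (Fin a) (Fin a) F) *ᵥ α y =
        α ((S.g₁.gl v c : Matrix (Fin a) (Fin a) F) *ᵥ y) := fun y => by
      rw [S.g₁.gl_mulVec, S.g₁.gl_mulVec, map_add, map_smul, hsim, ← mul_assoc, div_mul_cancel₀ _ hk0]
    rw [Units.val_mul, Units.val_mul, Units.val_mul, ← mulVec_mulVec, ← mulVec_mulVec, ← mulVec_mulVec,
      kr_inv, inv_one, kr_emb, Units.val_one, one_mulVec, ← hM, hN, mulVec_add, kr_emb, kr_emb,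
      Units.val_one, one_mulVec, one_mulVec, hcomm, mulVec_inv_mulVec]
    set y' := ((S.g₁.gl v c)⁻¹ : GL (Fin a) F).1 *ᵥ y with hy'
    have hy'' : y' = y - (c * S.g₁.form v y) • v := by
      rw [hy', S.g₁.gl_inv, S.g₁.gl_mulVec]; module
    have e1 : emb m (α y) = M *ᵥ emb d y - emb e (N y) := by rw [hN]; abel
    rw [e1, mulVec_add, mulVec_sub, ← hM', hM, inv_mulVec_mulVec, hsα', hsα', S.g₁.gl_mulVec]
    have hfα : ∀ w, S.g₁.form (α v) w = k * S.g₁.form v (α' w) := fun w => by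
      conv_lhs => rw [← hαα' w]
      rw [hsim]
    simp only [hfα, hy'', map_sub, map_smul, map_add, LinearMap.sub_apply, LinearMap.smul_apply,
      LinearMap.comp_apply, SForm.rankOne_apply, hα'α, smul_eq_mul, smul_sub, smul_smul,
      div_mul_cancel₀ _ hk0, ← mul_assoc, mul_sub, sub_smul, add_sub_assoc]
    module
  -- the blocks are scalar
  have hscal : ∀ d, (∀ b', S.g₂.form e b' = 0 → ∃ c : F, C b' d = c • α) →
      ((∀ d', S.g₂.form e d' = 0 → ∃ m : Fin b → F, ∀ y, M *ᵥ emb d' y = emb m (α y)) ∨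
        S.g₂.form e d = 0) →
      ∃ m : Fin b → F, ∀ y, M *ᵥ emb d y = emb m (α y) := by
    intro d hd hcase
    obtain ⟨m, N, hN⟩ := hblock d hd
    suffices hP : ∃ c : F, α' ∘ₗ N = c • LinearMap.id by
      obtain ⟨c, hc⟩ := hP
      refine ⟨m + c • e, fun y => ?_⟩
      have h1 : N y = c • α y := by
        have := congrArg α (LinearMap.congr_fun hc y)
        simpa [hαα'] using this
      rw [hN, h1, TS.emb_add_left, TS.emb_smul_left, LinearMap.add_apply, LinearMap.smul_apply, map_smul]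
    by_contra hP
    push Not at hP
    obtain ⟨v, c, hns⟩ := exists_ns_diff S.g₁ hq (P := α' ∘ₗ N) hP
    obtain ⟨r, hrH, hr⟩ := hmove v c
    set D := c • (S.g₁.rankOne v v ∘ₗ (α' ∘ₗ N) - (α' ∘ₗ N) ∘ₗ S.g₁.rankOne v v) -
        (c * c * S.g₁.form v ((α' ∘ₗ N) v)) • S.g₁.rankOne v v with hD
    by_cases hed : S.g₂.form e d = 0
    · choose m₁ N₁ hN₁ using fun d' (hd' : S.g₂.form e d' = 0) => hblock d' fun b' hb' => hC b' hb' d' hd'
      let Φ : (Fin b → F) → ((Fin a → F) →ₗ[F] (Fin a → F)) := fun d' =>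
        if h : S.g₂.form e d' = 0 then
          if d' = d then D else
          c • (S.g₁.rankOne v v ∘ₗ (α' ∘ₗ N₁ d' h) - (α' ∘ₗ N₁ d' h) ∘ₗ S.g₁.rankOne v v) -
            (c * c * S.g₁.form v ((α' ∘ₗ N₁ d' h) v)) • S.g₁.rankOne v v
        else 0
      have hΦ : Φ d = D := by simp [Φ, hed]
      obtain ⟨t, ht⟩ : ∃ t : F, Φ d = t • LinearMap.id := by
        have := hno r hrH Φ d (fun d' hd' y => by
          by_cases hdd : d' = d
          · subst hdd; rw [hΦ]; exact hr d' m N hN y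
          · simp only [Φ, dif_pos hd', if_neg hdd]; exact hr d' _ _ (hN₁ d' hd') y) hed
        simpa [NS] using this
      exact hns t (hΦ ▸ ht)
    · have hpure := hcase.resolve_right hed
      have hfix : ∀ d', S.g₂.form e d' = 0 → ∀ y,
          (r : Matrix (Fin a × Fin b) (Fin a × Fin b) F) *ᵥ emb d' y = emb d' y := by
        intro d' hd' y
        obtain ⟨m', hm'⟩ := hpure d' hd'
        rw [hr d' m' 0 (fun y => by simp [hm']) y]
        simp
      -- a central element
      set t := S.g₂.form e d with ht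
      have hcen : InH H (emb e ∘ₗ (t⁻¹ • D) ∘ₗ S.pi e) := by
        refine ⟨r, hrH, fun z => ?_⟩
        rw [TS.eq_sum_emb z, mulVec_sum, map_sum, ← Finset.sum_add_distrib]
        refine Finset.sum_congr rfl fun j _ => ?_
        set p := (Pi.single j 1 : Fin b → F)
        set y := TS.col z j
        have hp : emb p y = emb (p - (S.g₂.form e p / t) • d) y + (S.g₂.form e p / t) • emb d y := by
          conv_lhs => rw [← sub_add_cancel p ((S.g₂.form e p / t) • d)]
          rw [TS.emb_add_left, TS.emb_smul_left]; rfl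
        conv_lhs => rw [hp, mulVec_add, mulVec_smul, hfix _ (by
          rw [map_sub, map_smul, smul_eq_mul, ← ht, div_mul_cancel₀ _ hed, sub_self]), hr d m N hN,
          smul_add, ← add_assoc, ← hp]
        simp only [LinearMap.comp_apply, S.pi_emb, map_smul, LinearMap.smul_apply, ← hD, smul_smul,
          div_eq_mul_inv]
        rfl
      -- move it to a centre inside `e^⊥`
      obtain ⟨c₀, hc₀e, hc₀⟩ : ∃ c₀, S.g₂.form e c₀ = 0 ∧ c₀ ∉ Submodule.span F {e} := by
        let L : (Fin b → F) →ₗ[F] F × F := (S.g₂.form e).prod (S.g₂.form f)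
        obtain ⟨c₀, hc, hc0⟩ := Submodule.exists_mem_ne_zero_of_ne_bot
          (LinearMap.ker_ne_bot_of_finrank_lt (f := L) (by
            rw [Module.finrank_prod, Module.finrank_self, Module.finrank_fin_fun]; omega))
        refine ⟨c₀, congrArg Prod.fst (LinearMap.mem_ker.mp hc), fun h => ?_⟩
        obtain ⟨r₀, rfl⟩ := Submodule.mem_span_singleton.mp h
        have h1 : S.g₂.form f (r₀ • e) = 0 := congrArg Prod.snd (LinearMap.mem_ker.mp hc)
        rw [map_smul, hfe, smul_eq_mul, mul_one] at h1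
        exact hc0 (by rw [h1, zero_smul])
      obtain ⟨κ, hκ, hκe⟩ := S.g₂.exists_move_one he (w := c₀) (fun h => hc₀ (h ▸ zero_mem _))
      obtain ⟨hκH, hκI⟩ := closure_left_mem O hκ
      have hcen' : InH H (emb c₀ ∘ₗ (t⁻¹ • D) ∘ₗ S.pi c₀) := by
        obtain ⟨g, hgH, hgx⟩ := hcen
        refine ⟨kr 1 κ * g * (kr 1 κ)⁻¹, mul_mem (mul_mem hκH hgH) (inv_mem hκH), fun z => ?_⟩
        obtain ⟨w, rfl⟩ : ∃ w, (kr 1 κ : GL (Fin a × Fin b) F).1 *ᵥ w = z := ⟨_, mulVec_inv_mulVec _ z⟩
        rw [Units.val_mul, Units.val_mul, ← mulVec_mulVec, ← mulVec_mulVec, inv_mulVec_mulVec, hgx,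
          mulVec_add]
        simp only [LinearMap.comp_apply]
        rw [kr_emb, hκe, Units.val_one, one_mulVec, ← hκe, pi_kr_left hκI]
      obtain ⟨c₁, hc₁⟩ : ∃ c₁, S.g₂.form c₁ e = 0 ∧ S.g₂.form c₁ c₀ = 1 := by
        obtain ⟨z, hz⟩ := S.g₂.exists_prescribed
          (show LinearIndependent F ![e, c₀] from LinearIndependent.pair_iff.mpr fun r₀ t₀ h => by
            by_cases ht₀ : t₀ = 0
            · subst ht₀
              rw [zero_smul, add_zero] at h
              exact ⟨(smul_eq_zero.mp h).resolve_right he, rfl⟩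
            · refine absurd (Submodule.mem_span_singleton.mpr ⟨-(t₀⁻¹ * r₀), ?_⟩) hc₀
              have h1 := congrArg (t₀⁻¹ • ·) h
              simp only [smul_add, smul_smul, inv_mul_cancel₀ ht₀, one_smul, smul_zero] at h1
              linear_combination (norm := module) -h1) ![0, 1]
        exact ⟨z, hz 0, hz 1⟩
      have hec₁ := S.g₂.eq_zero_comm hc₁.1
      obtain ⟨g, hgH, hgx⟩ := inH_R_one O hec₁
      have hrad : Rad S e g fun d' => S.g₂.form c₁ d' • LinearMap.id := by
        intro d' hd' y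
        rw [hgx, R_apply, S.g₁.adj_id, S.pi_emb, S.pi_emb, hd', zero_smul, map_zero, map_zero, zero_add]
        rfl
      obtain ⟨r', hr'H, hr'⟩ := exists_rad_comm O hc₀e hgH hrad hcen'
      obtain ⟨u, hu⟩ : ∃ u : F, S.g₂.form c₀ c₁ • ((S.g₂.form c₁ c₀ • LinearMap.id) ∘ₗ (t⁻¹ • D)) =
          u • LinearMap.id := by
        have := hno r' hr'H _ c₁ hr' hec₁
        simpa [NS] using this
      refine hns (-(u * t)) (LinearMap.ext fun y => ?_)
      have h1 := LinearMap.congr_fun hu y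
      simp only [hc₁.2, S.g₂.skew c₀ c₁, LinearMap.smul_apply, LinearMap.comp_apply, LinearMap.id_apply,
        one_smul, smul_smul] at h1
      rw [LinearMap.smul_apply, LinearMap.id_apply]
      have h2 := congrArg (fun z => (-t) • z) h1
      simp only [smul_smul] at h2
      rw [show -t * (-1 * t⁻¹) = 1 by field_simp, one_smul] at h2
      rw [h2]
      congr 1
      ring
  have hpure : ∀ d, S.g₂.form e d = 0 → ∃ m : Fin b → F, ∀ y, M *ᵥ emb d y = emb m (α y) :=
    fun d hd => hscal d (fun b' hb' => hC b' hb' d hd) (Or.inr hd)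
  obtain ⟨y₀, i₀, hi₀⟩ : ∃ (y₀ : Fin a → F) (i₀ : Fin a), α y₀ i₀ = 1 :=
    ⟨α' (Pi.single ⟨0, by omega⟩ 1), ⟨0, by omega⟩, by rw [hαα']; simp⟩
  let μ : (Fin b → F) →ₗ[F] (Fin b → F) :=
    { toFun := fun d j => (M *ᵥ emb d y₀) (i₀, j)
      map_add' := fun p q => by funext j; rw [TS.emb_add_left, LinearMap.add_apply, mulVec_add]; rfl
      map_smul' := fun c p => by funext j; rw [TS.emb_smul_left, LinearMap.smul_apply, mulVec_smul]; rfl }
  have hμm : ∀ (d m : Fin b → F), (∀ y, M *ᵥ emb d y = emb m (α y)) → μ d = m := fun d m h => by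
    funext j
    show (M *ᵥ emb d y₀) (i₀, j) = m j
    rw [h]
    simp [emb, hi₀]
  have hμ : ∀ d, S.g₂.form e d = 0 → ∀ y, M *ᵥ emb d y = emb (μ d) (α y) := fun d hd y => by
    obtain ⟨m, hm⟩ := hpure d hd
    rw [hμm d m hm, hm]
  have hμperp : ∀ d, S.g₂.form e d = 0 → S.g₂.form e (μ d) = 0 := fun d hd => by
    have h1 := hpe d hd y₀
    rw [hμ d hd, S.pi_emb] at h1
    have := congrFun h1 i₀
    simpa [hi₀] using this
  have hsurj : ∀ b', S.g₂.form e b' = 0 → ∃ d, S.g₂.form e d = 0 ∧ μ d = b' := by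
    intro b' hb'
    let K := LinearMap.ker (S.g₂.form e)
    let ν : K →ₗ[F] K := μ.restrict fun d hd => hμperp d hd
    have hνi : Function.Injective ν := (injective_iff_map_eq_zero ν).mpr fun d hd => by
      have h1 : μ d.1 = 0 := congrArg Subtype.val hd
      have h2 : emb (a := a) d.1 y₀ = 0 := mulVec_injective s (by
        show M *ᵥ _ = M *ᵥ _
        rw [hμ d.1 d.2, h1, mulVec_zero]; funext p; simp [emb])
      obtain ⟨j, hj⟩ : ∃ j, y₀ j ≠ 0 := Function.ne_iff.mp fun h => by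
        rw [show y₀ = 0 from h, map_zero] at hi₀; exact zero_ne_one hi₀
      refine Subtype.ext (funext fun i => ?_)
      have h3 := congrFun h2 (j, i)
      exact (mul_eq_zero.mp h3).resolve_left hj
    obtain ⟨d, hd⟩ := (LinearMap.injective_iff_surjective.mp hνi) ⟨b', hb'⟩
    exact ⟨d.1, d.2, congrArg Subtype.val hd⟩
  obtain ⟨mf, hmf⟩ : ∃ m : Fin b → F, ∀ y, M *ᵥ emb f y = emb m (α y) := by
    refine hscal f (fun b' hb' => ?_) (Or.inl hpure)
    obtain ⟨d, hd, rfl⟩ := hsurj b' hb'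
    refine ⟨S.g₂.form d f / k, LinearMap.ext fun y => S.g₁.eq_of_forall fun x => ?_⟩
    show S.g₁.form x (S.pi (μ d) (M *ᵥ emb f y)) = _
    rw [← S.polar_emb, show emb (μ d) x = M *ᵥ emb d (α' x) by rw [hμ d hd, hαα'],
      hsI.polar, S.pol, LinearMap.smul_apply, map_smul, smul_eq_mul]
    conv_rhs => rw [← hαα' x, hsim]
    field_simp
  have hall : ∀ d y, M *ᵥ emb d y = emb (μ d) (α y) := fun d y => by
    obtain ⟨d₀, t, hd₀, rfl⟩ := exists_comp_basis (S := S) hfe d
    rw [map_add, map_smul, hμm f mf hmf, TS.emb_add_left, TS.emb_smul_left, LinearMap.add_apply,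
      LinearMap.smul_apply, mulVec_add, mulVec_smul, hμ d₀ hd₀, hmf, TS.emb_add_left, TS.emb_smul_left,
      LinearMap.add_apply, LinearMap.smul_apply]
  have hμi : Function.Injective μ := (injective_iff_map_eq_zero μ).mpr fun d hd => by
    have h2 : emb (a := a) d y₀ = 0 := mulVec_injective s (by
      show M *ᵥ _ = M *ᵥ _
      rw [hall, hd, mulVec_zero]; funext p; simp [emb])
    obtain ⟨j, hj⟩ : ∃ j, y₀ j ≠ 0 := Function.ne_iff.mp fun h => by
      rw [show y₀ = 0 from h, map_zero] at hi₀; exact zero_ne_one hi₀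
    exact funext fun i => (mul_eq_zero.mp (congrFun h2 (j, i))).resolve_left hj
  have unit_of_inj : ∀ {n : ℕ} (l : (Fin n → F) →ₗ[F] (Fin n → F)), Function.Injective l →
      IsUnit (LinearMap.toMatrix' l) := fun l hl => Matrix.mulVec_injective_iff_isUnit.mp (by
    intro x y h
    simp only [← Matrix.toLin'_apply, Matrix.toLin'_toMatrix'] at h
    exact hl h)
  refine hsT ⟨(unit_of_inj α hαi).unit, (unit_of_inj μ hμi).unit, Matrix.ext_of_mulVec_single fun p => ?_⟩
  obtain ⟨i, j⟩ := p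
  have he' : (Pi.single (i, j) 1 : Fin a × Fin b → F) = emb (Pi.single j 1) (Pi.single i 1) := by
    funext q
    by_cases h1 : q.1 = i <;> by_cases h2 : q.2 = j <;>
      simp [emb, Pi.single_apply, Prod.ext_iff, h1, h2]
  rw [he', ← hM, hall]
  have h2 := kr_emb (unit_of_inj α hαi).unit (unit_of_inj μ hμi).unit (Pi.single j 1) (Pi.single i (1 : F))
  rw [kr_coe] at h2
  rw [h2]
  simp only [IsUnit.unit_spec, ← Matrix.toLin'_apply, Matrix.toLin'_toMatrix']

end Cfsg.Agent.TensorSp
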